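import Cfsg.Agent.H99.GW.HalvesPSL
import Cfsg.Agent.H35.GW.NumericKlein

/-!
# Gorenstein–Walter, Sylow four group: the order relation given by the halves lemma
-/

set_option autoImplicit false

open Cfsg Cfsg.Agent Cfsg.Agent.CharBasic

namespace Cfsg.Agent.H99.GW

/-- In the configuration of the halves lemma `|G : C(J)| c² = 4 I² (c + 1) (2 c + 1)` with
`c ≡ 2 (mod 4)` and `I = |C(J) : C(P)|`. -/
theorem exists_order_relation {G : Type*} [Group G] [Finite G] (P : Sylow 2 G)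
    (hP : IsKleinFour (P : Subgroup G))
    (hone : ∀ a b : G, orderOf a = 2 → orderOf b = 2 → IsConj a b)
    {J : G} (hJ : J ∈ (P : Subgroup G)) (hJ2 : orderOf J = 2)
    {F : Type*} [Field F] [Fintype F] [DecidableEq F] (p : ℕ) [Fact p.Prime] [CharP F p]
    (hq : Fintype.card F % 8 = 3 ∨ Fintype.card F % 8 = 5)
    {E : Type*} [Group E] [Finite E] (hEodd : ∀ y : E, ¬ 2 ∣ orderOf y)
    (i : E × Matrix.ProjectiveSpecialLinearGroup (Fin 2) F →* G) (hi : Function.Injective i)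
    (hTI : ∀ a b : E × Matrix.ProjectiveSpecialLinearGroup (Fin 2) F,
      a.1 ≠ 1 → a.2 ∈ oddClasses F p → b.1 ≠ 1 → b.2 ∈ oddClasses F p →
      ∀ x : G, x⁻¹ * i a * x = i b → x ∈ i.range)
    {ψ : E →* ℂˣ} (hψ : ψ ≠ 1) {n : ℕ} (hn : ¬ p ∣ n) (hψn : ∀ y, (ψ y : ℂ) ^ n = 1) :
    ∃ (c : ℤ) (I : ℕ), c % 4 = 2 ∧ 0 < I ∧
      Nat.card (Subgroup.centralizer ({J} : Set G)) =
        I * Nat.card (Subgroup.centralizer ((P : Subgroup G) : Set G)) ∧
      ((Subgroup.centralizer ({J} : Set G)).index : ℤ) * c ^ 2 =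
        4 * (I : ℤ) ^ 2 * ((c + 1) * (2 * c + 1)) := by
  classical
  cases nonempty_fintype G
  cases nonempty_fintype E
  have : Fact (Nat.Prime 2) := ⟨Nat.prime_two⟩
  obtain ⟨M, hM⟩ := BlockBasic.exists_isPModular (p := 2) Nat.prime_two
  have h4 : Nat.card (P : Subgroup G) = 4 := hP.card_four
  have hexp : ∀ x ∈ (P : Subgroup G), x * x = 1 := fun x hx => by
    have h := Monoid.pow_exponent_eq_one (⟨x, hx⟩ : (P : Subgroup G))
    rw [hP.exponent_two, pow_two] at h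
    exact congrArg Subtype.val h
  obtain ⟨ζ₂, ζ₃, ζ₄, ε, hε, h21, h31, h23, h24, h34, hB, hz, hc2, hc3, hc4, -⟩ :=
    S0948.result M hM P hP hone
  have h41 : (ζ₄ : G → ℂ) ≠ fun _ => 1 := fun h => by
    have v4 := (hz J hJ2).2.2
    rw [h] at v4
    norm_num at v4
  have hhalves := halves_psl_klein hM P hP ζ₂ ζ₃ ζ₄ hε h21 h31 h41 h23 h24 h34 hB hz hc2 hc3 hc4
    p hq hEodd i hi hTI hψ hn hψn
  obtain ⟨v2, v3, v4⟩ := hz J hJ2
  obtain ⟨g₀, hg₀⟩ : 4 ∣ Nat.card G := h4 ▸ (P : Subgroup G).card_subgroup_dvd_card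
  have hodd : Odd g₀ := Nat.not_even_iff_odd.1 fun ⟨k, hk⟩ => P.not_dvd_index (by
    have h := (P : Subgroup G).card_mul_index
    rw [h4, hg₀] at h
    exact ⟨k, by omega⟩)
  have hnc : ¬ ∃ N : Subgroup G, N.Normal ∧ Nat.card N = g₀ := by
    rintro ⟨N, hN, hNc⟩
    refine H35.GW.no_complement_of_one_class P h4 hexp hone N hN (hNc ▸ hodd) ?_
    have h := N.card_mul_index
    rw [hNc, hg₀, mul_comm 4 g₀] at h
    exact Nat.eq_of_mul_eq_mul_left hodd.pos h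
  obtain ⟨N, hN0, hN, hrel, hkey⟩ := H24.KleinBlock.klein_int hM g₀ hodd hg₀ hnc P J hJ hJ2
    ζ₂ ζ₃ ζ₄ 1 ε (-1) hB ⟨h21, h31, h41, h23, h24, h34⟩ ⟨Or.inl rfl, hε, Or.inr rfl⟩
    ⟨by rw [v2, Int.cast_one], v3, by rw [v4]; norm_num⟩
  rcases hε with rfl | rfl
  · have hxy : (charDegree (ζ₂ : G → ℂ) : ℤ) = charDegree (ζ₃ : G → ℂ) := by
      rw [hhalves.1 rfl]
    rw [hxy] at hrel hkey hc2
    generalize (charDegree (ζ₃ : G → ℂ) : ℤ) = h at *
    generalize (charDegree (ζ₄ : G → ℂ) : ℤ) = z at *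
    obtain rfl : z = 2 * h + 1 := by linarith
    refine ⟨-(h + 1), N, by omega, hN0, hN, ?_⟩
    refine mul_left_cancel₀ (show (2 * h : ℤ) ≠ 0 by omega) ?_
    linear_combination hkey
  · have hxy : (charDegree (ζ₃ : G → ℂ) : ℤ) = charDegree (ζ₄ : G → ℂ) := by
      rw [hhalves.2 rfl]
    rw [hxy] at hrel hkey hc3
    generalize (charDegree (ζ₄ : G → ℂ) : ℤ) = h at *
    generalize (charDegree (ζ₂ : G → ℂ) : ℤ) = x at *
    obtain rfl : x = 2 * h - 1 := by linarith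
    refine ⟨h - 1, N, by omega, hN0, hN, ?_⟩
    refine mul_left_cancel₀ (show (2 * h : ℤ) ≠ 0 by omega) ?_
    linear_combination hkey

end Cfsg.Agent.H99.GW
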