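import Mathlib

/-!
# Gorenstein–Walter, Sylow four group: the trivially intersecting set in `E × L`

For `E` of order prime to the orders in `Δ`, fusion of `a l` to `a' l'` fuses `a` to `a'`.
-/

set_option autoImplicit false

set_option linter.unusedSectionVars false

namespace Cfsg.Agent.H99.GW

variable {G : Type*} [Group G] {E : Type*} [Group E] [Finite E] {L : Type*} [Group L] [Finite L]

/-- Splitting off the `E`-part of a conjugation. -/
theorem conj_fst (i : E × L →* G) {Δ : Set L}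
    (hcop : ∀ l ∈ Δ, (Nat.card E).Coprime (orderOf l)) {a b : E × L} (ha : a.2 ∈ Δ) (hb : b.2 ∈ Δ)
    {x : G} (h : x⁻¹ * i a * x = i b) : x⁻¹ * i (a.1, 1) * x = i (b.1, 1) := by
  obtain ⟨k, hk1, hk0⟩ := Nat.chineseRemainder
    (Nat.Coprime.mul_right (hcop _ ha) (hcop _ hb)) 1 0
  have hkd : orderOf a.2 * orderOf b.2 ∣ k := (Nat.modEq_zero_iff_dvd).1 hk0
  have hpow : ∀ c : E × L, orderOf c.2 ∣ k → i c ^ k = i (c.1, 1) := by
    intro c hc
    rw [← map_pow]
    congr 1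
    refine Prod.ext ?_ (orderOf_dvd_iff_pow_eq_one.1 hc)
    show c.1 ^ k = c.1
    conv_rhs => rw [← pow_one c.1]
    exact pow_eq_pow_iff_modEq.2 (hk1.of_dvd (orderOf_dvd_natCard _))
  rw [← hpow a ((dvd_mul_right _ _).trans hkd), ← hpow b ((dvd_mul_left _ _).trans hkd), ← h]
  have e : ∀ y : G, x⁻¹ * y * x = MulAut.conj x⁻¹ y := fun y => by simp
  rw [e, e, map_pow]

/-- The hypothesis `hTI` of the halves lemma. -/
theorem ti_of_fusion (i : E × L →* G) {Δ : Set L}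
    (hcop : ∀ l ∈ Δ, (Nat.card E).Coprime (orderOf l))
    (hfus : ∀ a b : E, a ≠ 1 → b ≠ 1 → ∀ x : G, x⁻¹ * i (a, 1) * x = i (b, 1) → x ∈ i.range) :
    ∀ a b : E × L, a.1 ≠ 1 → a.2 ∈ Δ → b.1 ≠ 1 → b.2 ∈ Δ →
      ∀ x : G, x⁻¹ * i a * x = i b → x ∈ i.range :=
  fun a b ha haΔ hb hbΔ x h => hfus a.1 b.1 ha hb x (conj_fst i hcop haΔ hbΔ h)

/-- The hypothesis `hTI` from the centralisers and the normaliser of the image. -/
theorem ti_of_centralizer (i : E × L →* G) {Δ : Set L}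
    (hcop : ∀ l ∈ Δ, (Nat.card E).Coprime (orderOf l))
    (hC : ∀ a : E, a ≠ 1 → Subgroup.centralizer ({i (a, 1)} : Set G) = i.range)
    (hN : Subgroup.normalizer (i.range : Set G) ≤ i.range) :
    ∀ a b : E × L, a.1 ≠ 1 → a.2 ∈ Δ → b.1 ≠ 1 → b.2 ∈ Δ →
      ∀ x : G, x⁻¹ * i a * x = i b → x ∈ i.range := by
  refine ti_of_fusion i hcop fun a b ha hb x h => hN (Subgroup.mem_normalizer_iff.2 fun g => ?_)
  have hconj : ∀ g : G,
      g ∈ Subgroup.centralizer ({i (b, 1)} : Set G) ↔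
        x * g * x⁻¹ ∈ Subgroup.centralizer ({i (a, 1)} : Set G) := by
    intro g
    rw [Subgroup.mem_centralizer_singleton_iff, Subgroup.mem_centralizer_singleton_iff, ← h]
    constructor <;> intro e
    · calc x * g * x⁻¹ * i (a, 1) = x * (g * (x⁻¹ * i (a, 1) * x)) * x⁻¹ := by group
        _ = x * ((x⁻¹ * i (a, 1) * x) * g) * x⁻¹ := by rw [e]
        _ = _ := by group
    · calc g * (x⁻¹ * i (a, 1) * x) = x⁻¹ * (x * g * x⁻¹ * i (a, 1)) * x := by group
        _ = x⁻¹ * (i (a, 1) * (x * g * x⁻¹)) * x := by rw [e]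
        _ = _ := by group
  simpa [hC a ha, hC b hb] using hconj g

end Cfsg.Agent.H99.GW
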