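import Mathlib

/-!
# Arithmetic of the linear blocks for a four group Sylow `2`-subgroup
-/

set_option autoImplicit false

namespace Cfsg.Agent.H99.GW

/-- The block sum `β` of the principal block is positive, and is at most `8/15` only in `L₂(5)`
shape. -/
theorem beta_small {x y z : ℕ} {ε : ℤ} (hε : ε = 1 ∨ ε = -1) (hx : (4 : ℤ) ∣ (x : ℤ) - 1)
    (hy : (4 : ℤ) ∣ (y : ℤ) - ε) (hz : (4 : ℤ) ∣ (z : ℤ) + 1) (hx2 : 2 ≤ x) (hy2 : 2 ≤ y)
    (hz2 : 2 ≤ z) (hrel : 1 + (x : ℤ) + ε * y - z = 0) :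
    0 < 1 + 1 / (x : ℚ) + (ε : ℚ) / y - 1 / z ∧
      (1 + 1 / (x : ℚ) + (ε : ℚ) / y - 1 / z ≤ 8 / 15 → ε = -1 ∧ y = 3) := by
  have hxq : (0 : ℚ) < x := by exact_mod_cast (show 0 < x by omega)
  have hyq : (0 : ℚ) < y := by exact_mod_cast (show 0 < y by omega)
  have hzq : (0 : ℚ) < z := by exact_mod_cast (show 0 < z by omega)
  have hxi : (0 : ℚ) < 1 / x := by positivity
  rcases hε with rfl | rfl
  · have h1 : 1 / (z : ℚ) ≤ 1 / x :=
      one_div_le_one_div_of_le hxq (by exact_mod_cast (show x ≤ z by omega))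
    have h2 : (0 : ℚ) < ((1 : ℤ) : ℚ) / y := by push_cast; positivity
    exact ⟨by linarith, fun h => by linarith⟩
  · have hy3 : 3 ≤ y := by omega
    have hz3 : 3 ≤ z := by omega
    have h1 : 1 / (z : ℚ) ≤ 1 / 3 :=
      one_div_le_one_div_of_le (by norm_num) (by exact_mod_cast hz3)
    have h2 : 1 / (y : ℚ) ≤ 1 / 3 :=
      one_div_le_one_div_of_le (by norm_num) (by exact_mod_cast hy3)
    have e : (((-1 : ℤ)) : ℚ) / y = -(1 / (y : ℚ)) := by push_cast; ring
    rw [e]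
    refine ⟨by linarith, fun h => ⟨rfl, ?_⟩⟩
    by_contra hne
    have h7 : 7 ≤ y := by omega
    rcases (show z = 3 ∨ 7 ≤ z by omega) with rfl | h7z
    · have hxy : x = y + 2 := by omega
      subst hxy
      push_cast at h
      have hd : 1 / (y : ℚ) - 1 / ((y : ℚ) + 2) = 2 / ((y : ℚ) * (y + 2)) := by
        field_simp; ring
      have h3 : 2 / ((y : ℚ) * (y + 2)) ≤ 2 / 63 := by
        apply div_le_div_of_nonneg_left (by norm_num) (by norm_num)
        have : (7 : ℚ) ≤ y := by exact_mod_cast h7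
        nlinarith
      linarith
    · have h3 : 1 / (z : ℚ) ≤ 1 / 7 :=
        one_div_le_one_div_of_le (by norm_num) (by exact_mod_cast h7z)
      have h4 : 1 / (y : ℚ) ≤ 1 / 7 :=
        one_div_le_one_div_of_le (by norm_num) (by exact_mod_cast h7)
      linarith

/-- `β = 8/F` with `F ≡ 3 (mod 4)` only in `L₂(5)` shape. -/
theorem beta_eight_div {x y z F : ℕ} {ε : ℤ} (hε : ε = 1 ∨ ε = -1) (hx : (4 : ℤ) ∣ (x : ℤ) - 1)
    (hy : (4 : ℤ) ∣ (y : ℤ) - ε) (hz : (4 : ℤ) ∣ (z : ℤ) + 1) (hx2 : 2 ≤ x) (hy2 : 2 ≤ y)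
    (hz2 : 2 ≤ z) (hrel : 1 + (x : ℤ) + ε * y - z = 0) (hF : F % 4 = 3)
    (h : 1 + 1 / (x : ℚ) + (ε : ℚ) / y - 1 / z = 8 / (F : ℚ)) : ε = -1 ∧ y = 3 := by
  have hFq : (0 : ℚ) < F := by exact_mod_cast (show 0 < F by omega)
  have hxq : (0 : ℚ) < x := by exact_mod_cast (show 0 < x by omega)
  have hyq : (0 : ℚ) < y := by exact_mod_cast (show 0 < y by omega)
  have hzq : (0 : ℚ) < z := by exact_mod_cast (show 0 < z by omega)
  rcases hε with rfl | rfl
  · exfalso
    push_cast at h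
    have hx5 : 5 ≤ x := by omega
    have hy5 : 5 ≤ y := by omega
    have h1 : 1 / (x : ℚ) ≤ 1 / 5 :=
      one_div_le_one_div_of_le (by norm_num) (by exact_mod_cast hx5)
    have h2 : 1 / (y : ℚ) ≤ 1 / 5 :=
      one_div_le_one_div_of_le (by norm_num) (by exact_mod_cast hy5)
    have hzx : 1 / (z : ℚ) < 1 / x :=
      one_div_lt_one_div_of_lt hxq (by exact_mod_cast (show x < z by omega))
    have hzi : (0 : ℚ) < 1 / z := by positivity
    have hyi : (0 : ℚ) < 1 / y := by positivity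
    have hlo : 8 / (F : ℚ) > 1 := by linarith
    have hhi : 8 / (F : ℚ) < 7 / 5 := by linarith
    rw [gt_iff_lt, lt_div_iff₀ hFq, one_mul] at hlo
    rw [div_lt_iff₀ hFq] at hhi
    have hF8 : F < 8 := by exact_mod_cast hlo
    have hF6 : 5 < F := by
      have : (5 : ℚ) < F := by linarith
      exact_mod_cast this
    obtain rfl : F = 7 := by omega
    obtain rfl : z = x + y + 1 := by omega
    have hq : (7 : ℚ) * ((y : ℚ) * (x + y + 1) + x * (x + y + 1) - x * y) =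
        x * y * (x + y + 1) := by
      push_cast at h
      field_simp at h
      linarith
    have hn : 7 * (y * (x + y + 1) + x * (x + y + 1)) = x * y * (x + y + 1) + 7 * (x * y) := by
      have : (7 : ℚ) * ((y : ℚ) * (x + y + 1) + x * (x + y + 1)) =
          x * y * (x + y + 1) + 7 * (x * y) := by linarith
      exact_mod_cast this
    clear h hq hlo hhi
    rcases (show x = 5 ∨ x = 9 ∨ 13 ≤ x by omega) with rfl | rfl | hx13
    · nlinarith
    · have : y < 15 := by nlinarith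
      interval_cases y <;> omega
    · rcases (show y = 5 ∨ y = 9 ∨ 13 ≤ y by omega) with rfl | rfl | hy13
      · nlinarith
      · have : x < 15 := by nlinarith
        interval_cases x <;> omega
      · have hP : 13 * (x + y) ≤ x * y + 169 := by nlinarith
        have hs : 26 ≤ x + y := by omega
        nlinarith [Nat.mul_le_mul_right (x + y + 8) hP, Nat.mul_le_mul hs hs]
  · have hsmall := (beta_small (Or.inr rfl) hx hy hz hx2 hy2 hz2 hrel).2
    rw [h] at hsmall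
    by_cases h15 : 15 ≤ F
    · refine hsmall ?_
      rw [div_le_div_iff₀ hFq (by norm_num)]
      have : (15 : ℚ) ≤ F := by exact_mod_cast h15
      linarith
    refine ⟨rfl, ?_⟩
    by_contra hy3
    push_cast at h
    have hy7 : 7 ≤ y := by omega
    have hz3 : 3 ≤ z := by omega
    have hlt : 8 / (F : ℚ) < 1 := by
      have h1 : 1 / (x : ℚ) < 1 / y :=
        one_div_lt_one_div_of_lt hyq (by exact_mod_cast (show y < x by omega))
      have hzi : (0 : ℚ) < 1 / z := by positivity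
      have e : (-1 : ℚ) / y = -(1 / (y : ℚ)) := by ring
      rw [← h, e]
      linarith
    rw [div_lt_iff₀ hFq, one_mul] at hlt
    have hF8 : 8 < F := by exact_mod_cast hlt
    obtain rfl : F = 11 := by omega
    obtain ⟨hxn, hsum⟩ : x = y + z - 1 ∧ 1 ≤ y + z := by omega
    have hxe : (x : ℚ) = (y : ℚ) + z - 1 := by
      rw [hxn, Nat.cast_sub hsum]; push_cast; ring
    have hq : (11 : ℚ) * ((x : ℚ) * z + x * y - y * z) = 3 * (x * y * z) := by
      push_cast at h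
      field_simp at h
      linarith
    have hn : 11 * (x * z + x * y) = 3 * (x * y * z) + 11 * (y * z) := by
      have : (11 : ℚ) * ((x : ℚ) * z + x * y) = 3 * (x * y * z) + 11 * (y * z) := by linarith
      exact_mod_cast this
    clear h hq hxe hsmall hlt
    have hxyz : x + 1 = y + z := by omega
    rcases (show z = 3 ∨ 7 ≤ z by omega) with rfl | hz7
    · nlinarith
    · have hP : 7 * (y + z) ≤ y * z + 49 := by nlinarith
      have hs : 14 ≤ y + z := by omega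
      nlinarith [Nat.mul_le_mul_right (3 * (y + z) + 8) hP, Nat.mul_le_mul hs hs,
        congrArg (· * (y + z)) hxyz, congrArg (· * (y * z)) hxyz]

/-- Four signed degrees orthogonal to their signs have `Σ a/f ≤ 8/15`. -/
theorem signed_degrees_le {a : Fin 4 → ℤ} {f : Fin 4 → ℕ} (ha : ∀ i, a i = 1 ∨ a i = -1)
    (hf : ∀ i, (4 : ℤ) ∣ (f i : ℤ) + 3 * a i) (hf2 : ∀ i, 2 ≤ f i)
    (h0 : ∑ i, a i * (f i : ℤ) = 0) : ∑ i, (a i : ℚ) / (f i : ℚ) ≤ 8 / 15 := by
  have h5 : ∀ i, (a i : ℚ) / (f i : ℚ) ≤ 1 / 5 := fun i => by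
    rcases ha i with h | h
    · rw [h, Int.cast_one]
      have hd := hf i
      rw [h] at hd
      have := hf2 i
      exact one_div_le_one_div_of_le (by norm_num) (by exact_mod_cast (show 5 ≤ f i by omega))
    · rw [h]
      push_cast
      have : (0 : ℚ) ≤ 1 / f i := by positivity
      rw [neg_div]
      linarith
  have three : ∀ p q r m : ℕ, 5 ≤ p → 5 ≤ q → 5 ≤ r → p % 4 = 1 → q % 4 = 1 → r % 4 = 1 →
      p + q + r = m → (1 : ℚ) / p + 1 / q + 1 / r - 1 / m ≤ 8 / 15 := by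
    intro p q r m hp hq hr h4p h4q h4r hm
    have e : ∀ {a b : ℕ}, 0 < b → b ≤ a → (1 : ℚ) / a ≤ 1 / b := fun hb hab =>
      one_div_le_one_div_of_le (by exact_mod_cast hb) (by exact_mod_cast hab)
    have hp5 := e (b := 5) (by norm_num) hp
    have hq5 := e (b := 5) (by norm_num) hq
    have hr5 := e (b := 5) (by norm_num) hr
    have hmi : (0 : ℚ) ≤ 1 / m := by positivity
    push_cast at hp5 hq5 hr5
    rcases (show (p = 5 ∧ q = 5 ∧ r = 5) ∨ 9 ≤ p ∨ 9 ≤ q ∨ 9 ≤ r by omega) with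
      ⟨rfl, rfl, rfl⟩ | h | h | h
    · subst hm; norm_num
    all_goals
      have h9 := e (b := 9) (by norm_num) h
      push_cast at h9
      linarith
  simp only [Fin.sum_univ_four] at h0 ⊢
  have hb : ∀ i, (a i = 1 → 5 ≤ f i ∧ f i % 4 = 1) := fun i h => by
    have hd := hf i; rw [h] at hd; have := hf2 i; omega
  have hn : ∀ i, a i = -1 → ((a i : ℚ) / (f i : ℚ)) = -(1 / (f i : ℚ)) ∧ (a i : ℚ) / f i ≤ 0 :=
    fun i h => by
      have : ((a i : ℚ) / (f i : ℚ)) = -(1 / (f i : ℚ)) := by rw [h]; push_cast; ring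
      exact ⟨this, by rw [this, neg_nonpos]; positivity⟩
  have hp : ∀ i, a i = 1 → ((a i : ℚ) / (f i : ℚ)) = 1 / (f i : ℚ) := fun i h => by
    rw [h]; push_cast; ring
  have g0 := h5 0
  have g1 := h5 1
  have g2 := h5 2
  have g3 := h5 3
  have := hf2 0
  have := hf2 1
  have := hf2 2
  have := hf2 3
  rcases ha 0 with a0 | a0 <;> rcases ha 1 with a1 | a1 <;> rcases ha 2 with a2 | a2 <;>
    rcases ha 3 with a3 | a3 <;> rw [a0, a1, a2, a3] at h0
  · omega
  · rw [hp 0 a0, hp 1 a1, hp 2 a2, (hn 3 a3).1]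
    linarith [three (f 0) (f 1) (f 2) (f 3) (hb 0 a0).1 (hb 1 a1).1 (hb 2 a2).1 (hb 0 a0).2
      (hb 1 a1).2 (hb 2 a2).2 (by omega)]
  · rw [hp 0 a0, hp 1 a1, hp 3 a3, (hn 2 a2).1]
    linarith [three (f 0) (f 1) (f 3) (f 2) (hb 0 a0).1 (hb 1 a1).1 (hb 3 a3).1 (hb 0 a0).2
      (hb 1 a1).2 (hb 3 a3).2 (by omega)]
  · linarith [(hn 2 a2).2, (hn 3 a3).2]
  · rw [hp 0 a0, hp 2 a2, hp 3 a3, (hn 1 a1).1]
    linarith [three (f 0) (f 2) (f 3) (f 1) (hb 0 a0).1 (hb 2 a2).1 (hb 3 a3).1 (hb 0 a0).2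
      (hb 2 a2).2 (hb 3 a3).2 (by omega)]
  · linarith [(hn 1 a1).2, (hn 3 a3).2]
  · linarith [(hn 1 a1).2, (hn 2 a2).2]
  · linarith [(hn 1 a1).2, (hn 2 a2).2, (hn 3 a3).2]
  · rw [hp 1 a1, hp 2 a2, hp 3 a3, (hn 0 a0).1]
    linarith [three (f 1) (f 2) (f 3) (f 0) (hb 1 a1).1 (hb 2 a2).1 (hb 3 a3).1 (hb 1 a1).2
      (hb 2 a2).2 (hb 3 a3).2 (by omega)]
  · linarith [(hn 0 a0).2, (hn 3 a3).2]
  · linarith [(hn 0 a0).2, (hn 2 a2).2]
  · linarith [(hn 0 a0).2, (hn 2 a2).2, (hn 3 a3).2]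
  · linarith [(hn 0 a0).2, (hn 1 a1).2]
  · linarith [(hn 0 a0).2, (hn 1 a1).2, (hn 3 a3).2]
  · linarith [(hn 0 a0).2, (hn 1 a1).2, (hn 2 a2).2]
  · omega

/-- One row of three signs: with the other three it is the sign pattern of a Hadamard matrix. -/
theorem sign_rows {e g : Fin 4 → ℤ} {F : Fin 4 → ℤ} (he : ∀ i, e i = 1 ∨ e i = -1)
    (hg : ∀ i, g i = 1 ∨ g i = -1) (he0 : ∑ i, e i = 0) (hg0 : ∑ i, g i = 0)
    (heg : ∑ i, e i * g i = 0) (h0 : ∑ i, F i = 0) (h1 : ∑ i, e i * F i = 0)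
    (h2 : ∑ i, g i * F i = 0) (i : Fin 4) : e i * g i * F i = e 0 * g 0 * F 0 := by
  simp only [Fin.sum_univ_four] at *
  rcases he 0 with e0 | e0 <;> rcases he 1 with e1 | e1 <;> rcases he 2 with e2 | e2 <;>
    rcases he 3 with e3 | e3 <;> rw [e0, e1, e2, e3] at he0 <;> (try omega) <;>
    rcases hg 0 with g0 | g0 <;> rcases hg 1 with g1 | g1 <;> rcases hg 2 with g2 | g2 <;>
    rcases hg 3 with g3 | g3 <;> rw [g0, g1, g2, g3] at hg0 <;> (try omega) <;>
    simp only [e0, e1, e2, e3, g0, g1, g2, g3] at heg h1 h2 <;>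
    fin_cases i <;> simp [e0, e1, e2, e3, g0, g1, g2, g3] <;> omega

end Cfsg.Agent.H99.GW
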