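import Cfsg.Agent.H82.GW.Setting
import Cfsg.Agent.H15.GW.LinearKernel
import Cfsg.Agent.S0948
import Cfsg.Agent.H81.SimpleDegree

/-!
# Gorenstein–Walter for a four group Sylow `2`-subgroup: local facts and the principal block
-/

open scoped ComplexConjugate

set_option autoImplicit false
set_option linter.style.haveILetI false

namespace Cfsg.Agent.H99.GW

open BlockBasic CharBasic Cores Cfsg.Agent.GW

universe u

variable {G : Type u} [Group G] [Finite G] {S : Sylow 2 G} {c s : G}

omit [Finite G] in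
theorem isKleinFour_of_dGen (hD : H39.DGen (S : Subgroup G) 1 c s) :
    IsKleinFour (S : Subgroup G) ∧ ∀ g ∈ (S : Subgroup G), g = 1 ∨ g = c ∨ g = s ∨ g = c * s := by
  have hc2 : orderOf c = 2 := by rw [hD.oc, mul_one]
  have hcc : c * c = 1 := H39.mul_self_of_orderOf_eq_two hc2
  have hcs : c * s = s * c := by
    have h := hD.inv
    rw [inv_eq_of_mul_eq_one_right hcc, mul_inv_eq_iff_eq_mul] at h
    exact h.symm
  have hne : c ≠ s := fun h => hD.out (h ▸ Subgroup.mem_zpowers c)
  obtain ⟨T, hT, hTm⟩ := H39.klein_mk hc2 hD.os hne hcs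
  have hz : ∀ g ∈ Subgroup.zpowers c, g = 1 ∨ g = c := by
    intro g hg
    obtain ⟨k, rfl⟩ := hg
    show c ^ k = 1 ∨ c ^ k = c
    rcases Int.emod_two_eq_zero_or_one k with h | h
    all_goals rw [← zpow_mod_orderOf, hc2, Nat.cast_ofNat, h]
    · exact Or.inl (zpow_zero c)
    · exact Or.inr (zpow_one c)
  have hss : s * s = 1 := H39.mul_self_of_orderOf_eq_two hD.os
  have hmem : ∀ g ∈ (S : Subgroup G), g = 1 ∨ g = c ∨ g = s ∨ g = c * s := by
    intro g hg
    rcases hD.cases g hg with h | h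
    · rcases hz g h with h | h
      · exact Or.inl h
      · exact Or.inr (Or.inl h)
    · rcases hz _ h with h | h
      · exact Or.inr (Or.inr (Or.inl (by
          calc g = g * s * s := by rw [mul_assoc, hss, mul_one]
            _ = s := by rw [h, one_mul])))
      · exact Or.inr (Or.inr (Or.inr (by
          calc g = g * s * s := by rw [mul_assoc, hss, mul_one]
            _ = c * s := by rw [h])))
  have hST : (S : Subgroup G) = T := by
    refine le_antisymm (fun g hg => (hTm g).2 (hmem g hg)) fun g hg => ?_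
    rcases (hTm g).1 hg with rfl | rfl | rfl | rfl
    exacts [one_mem _, hD.mem_c, hD.mem_s, mul_mem hD.mem_c hD.mem_s]
  exact ⟨hST ▸ hT, hmem⟩

/-- `O(C(u))` consists of the elements of odd order of `C(u)`, and has index four in it. -/
theorem coreAt_klein (hD : H39.DGen (S : Subgroup G) 1 c s) :
    (∀ y, y ∈ coreAt c ↔ y * c = c * y ∧ Odd (orderOf y)) ∧
      Nat.card (Subgroup.centralizer ({c} : Set G)) = 4 * Nat.card (coreAt c) := by
  classical
  haveI : Fact (Nat.Prime 2) := ⟨Nat.prime_two⟩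
  cases nonempty_fintype G
  obtain ⟨hK, -⟩ := isKleinFour_of_dGen hD
  have hc2 : orderOf c = 2 := by rw [hD.oc, mul_one]
  set C := Subgroup.centralizer ({c} : Set G) with hC
  have hc := hasNormalPComplement_centralizer_involution S hK hc2 hD.mem_c
  obtain ⟨T⟩ : Nonempty (Sylow 2 C) := inferInstance
  have hcomp := exists_normal_isComplement'_sylow hc T
  have hidx : (pPrimeCore 2 C).index = 2 ^ (Nat.card C).factorization 2 := by
    rw [hcomp.symm.index_eq_card]; exact T.card_eq_multiplicity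
  have hodd : ¬ 2 ∣ Nat.card (pPrimeCore 2 C) := not_dvd_card_pPrimeCore
  have hSC : (S : Subgroup G) ≤ C := fun a ha => Subgroup.mem_centralizer_singleton_iff.2 <|
    congrArg Subtype.val (hK.isMulCommutative.is_comm.comm (⟨a, ha⟩ : (S : Subgroup G))
      ⟨c, hD.mem_c⟩)
  have hv : (Nat.card C).factorization 2 = 2 := by
    refine le_antisymm ?_ ?_
    · have h := (Nat.factorization_le_iff_dvd (Nat.card_pos (α := C)).ne'
        (Nat.card_pos (α := G)).ne').2 (Subgroup.card_subgroup_dvd_card _) 2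
      rwa [card_klein hK] at h
    · have h := Subgroup.card_dvd_of_le hSC
      rw [hK.card_four, show (4 : ℕ) = 2 ^ 2 from rfl] at h
      exact (Nat.prime_two.pow_dvd_iff_le_factorization Nat.card_pos.ne').1 h
  constructor
  · intro y
    rw [coreAt]
    constructor
    · rintro ⟨z, hz, rfl⟩
      refine ⟨Subgroup.mem_centralizer_singleton_iff.1 z.2, Nat.not_even_iff_odd.1 fun h2 =>
        hodd ((even_iff_two_dvd.1 h2).trans ?_)⟩
      rw [Subgroup.coe_subtype, Subgroup.orderOf_coe]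
      exact Subgroup.orderOf_dvd_natCard _ hz
    · rintro ⟨hy, ho⟩
      refine ⟨⟨y, Subgroup.mem_centralizer_singleton_iff.2 hy⟩, mem_of_regular ⟨_, hidx⟩ ?_, rfl⟩
      rw [Subgroup.orderOf_mk]
      exact fun h2 => Nat.not_even_iff_odd.2 ho (even_iff_two_dvd.2 h2)
  · rw [coreAt, Subgroup.card_map_of_injective C.subtype_injective,
      show (4 : ℕ) = (pPrimeCore 2 C).index by rw [hidx, hv]; rfl, mul_comm]
    exact (Subgroup.card_mul_index _).symm

theorem odd_card_coreAt (c : G) : Odd (Nat.card (coreAt c)) := by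
  rw [coreAt, Subgroup.card_map_of_injective (Subgroup.subtype_injective _)]
  exact odd_card_oddCore

/-- A nontrivial irreducible character of odd value at an involution: the degree is congruent to the
value modulo four, and is neither one nor two. -/
theorem degree_facts (hD : H39.DGen (S : Subgroup G) 1 c s) (hsimp : IsSimpleGroup G)
    (hna : ¬ IsMulCommutative G) (hone : ∀ w : G, orderOf w = 2 → IsConj c w)
    {χ : IrrCharacter G} (hne : (χ : G → ℂ) ≠ fun _ => 1) {a : ℤ} (ha : (χ : G → ℂ) c = (a : ℂ)) :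
    (4 : ℤ) ∣ (charDegree (χ : G → ℂ) : ℤ) + 3 * a ∧ 2 ≤ charDegree (χ : G → ℂ) := by
  haveI := hsimp
  obtain ⟨hK, -⟩ := isKleinFour_of_dGen hD
  refine ⟨four_dvd_degree S hK (fun a b hx hy => (hone a hx).symm.trans (hone b hy))
    (by rw [hD.oc, mul_one]) χ ha, H81.SimpleDegree.two_le_charDegree ?_ hne⟩
  by_contra h
  push Not at h
  exact hna ⟨⟨h⟩⟩

/-- The principal block: values at `c`, degrees, and the two block sums. -/
theorem principal_klein [Fintype G] {M : Ideal AlgInt} (hM : IsPModular 2 M)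
    (hD : H39.DGen (S : Subgroup G) 1 c s) (hsimp : IsSimpleGroup G) (hna : ¬ IsMulCommutative G)
    (hone : ∀ w : G, orderOf w = 2 → IsConj c w) :
    ∃ (χ₃ : IrrCharacter G) (x y z : ℕ) (ε : ℤ), (ε = 1 ∨ ε = -1) ∧
      (χ₃ : G → ℂ) ≠ (fun _ => 1) ∧ charDegree (χ₃ : G → ℂ) = y ∧ (χ₃ : G → ℂ) c = (ε : ℂ) ∧
      (4 : ℤ) ∣ (x : ℤ) - 1 ∧ (4 : ℤ) ∣ (y : ℤ) - ε ∧ (4 : ℤ) ∣ (z : ℤ) + 1 ∧
      2 ≤ x ∧ 2 ≤ y ∧ 2 ≤ z ∧ 1 + (x : ℤ) + ε * y - z = 0 ∧
      blockKernel (principalBlock M G) c c = 4 ∧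
      (∑ᶠ χ ∈ principalBlock M G,
          conj ((χ : G → ℂ) c) * conj ((χ : G → ℂ) c) * (χ : G → ℂ) c / (χ : G → ℂ) 1) =
        1 + 1 / (x : ℂ) + (ε : ℂ) / y - 1 / z := by
  classical
  haveI := hsimp
  obtain ⟨hK, -⟩ := isKleinFour_of_dGen hD
  obtain ⟨ζ₂, ζ₃, ζ₄, ε, hε, h21, h31, h23, h24, h34, hB, hval, d2, d3, d4, hrel⟩ :=
    S0948.result M hM S hK fun a b hx hy => (hone a hx).symm.trans (hone b hy)
  have hc2 : orderOf c = 2 := by rw [hD.oc, mul_one]
  obtain ⟨v2, v3, v4⟩ := hval c hc2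
  have h41 : (ζ₄ : G → ℂ) ≠ fun _ => 1 := fun h => by rw [h] at v4; norm_num at v4
  have hna' : ∃ x y : G, x * y ≠ y * x := by
    by_contra h
    push Not at h
    exact hna ⟨⟨h⟩⟩
  have htne : ∀ ζ : IrrCharacter G, (ζ : G → ℂ) ≠ (fun _ => 1) → trivialIrr ≠ ζ :=
    fun ζ h e => h (by rw [← e]; rfl)
  have hsumB : ∀ f : IrrCharacter G → ℂ,
      ∑ᶠ χ ∈ principalBlock M G, f χ = f trivialIrr + f ζ₂ + f ζ₃ + f ζ₄ := by
    intro f
    have hset : principalBlock M G = ↑({trivialIrr, ζ₂, ζ₃, ζ₄} : Finset (IrrCharacter G)) := by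
      rw [hB]
      ext χ
      simp only [Set.mem_setOf_eq, Finset.coe_insert, Finset.coe_singleton, Set.mem_insert_iff,
        Set.mem_singleton_iff]
      exact or_congr_left ⟨fun h => Subtype.ext h, fun h => by rw [h]; rfl⟩
    rw [hset, finsum_mem_coe_finset,
      Finset.sum_insert (by simp [htne _ h21, htne _ h31, htne _ h41]),
      Finset.sum_insert (by simp [h23, h24]), Finset.sum_insert (by simp [h34]),
      Finset.sum_singleton]
    ring
  have ht : ∀ g : G, ((trivialIrr : IrrCharacter G) : G → ℂ) g = 1 := fun g => rfl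
  refine ⟨ζ₃, charDegree (ζ₂ : G → ℂ), charDegree (ζ₃ : G → ℂ), charDegree (ζ₄ : G → ℂ), ε, hε,
    h31, rfl, v3, d2, d3, d4, H81.SimpleDegree.two_le_charDegree hna' h21,
    H81.SimpleDegree.two_le_charDegree hna' h31, H81.SimpleDegree.two_le_charDegree hna' h41,
    ?_, ?_, ?_⟩
  · have h := hrel 1 (by simp)
    simp only [apply_one_eq_charDegree] at h
    exact_mod_cast h
  · rw [blockKernel, hsumB]
    simp only [ht, v2, v3, v4, map_one, map_neg, map_intCast]
    rcases hε with rfl | rfl <;> norm_num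
  · rw [hsumB]
    simp only [ht, v2, v3, v4, map_one, map_neg, map_intCast, apply_one_eq_charDegree]
    rcases hε with rfl | rfl <;> push_cast <;> ring

end Cfsg.Agent.H99.GW
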