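import Cfsg.Agent.CharBasic.Kernel
import Cfsg.Agent.CharBasic.Virtual
import Cfsg.Agent.CharInduce.Ops
import Cfsg.Agent.BlockBasic.Basic
import Cfsg.Agent.Cores.ProductRule
import Cfsg.Agent.H81.SimpleDegree

/-!
# Characters on an odd subgroup centralised by an involution

The two eigenspaces of the involution give the splitting of the multiplicities, and an irreducible
faithful character of degree three with value `-1` at the involution makes the subgroup abelian.
-/

open scoped ComplexConjugate

set_option autoImplicit false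
set_option linter.style.haveILetI false

namespace Cfsg.Agent.H99.GW

open BlockBasic CharBasic

universe u

variable {G : Type u} [Group G] [Finite G]

omit [Finite G] in
/-- The multiplicities of a character of `K` in `χ|K` and in the section of `z` have the same
parity, and the second is bounded by the first. -/
theorem exists_split {K : Subgroup G} [Fintype K] {z : G} (hz : z * z = 1)
    (hzK : ∀ y ∈ K, z * y = y * z) {χ : G → ℂ} (hχ : Cfsg.IsCharacter G χ) {ξ : K → ℂ}
    (hξ : Cfsg.IsCharacter K ξ) :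
    ∃ p q : ℕ, Cfsg.classInner (fun y : K => χ (y : G)) ξ = (p : ℂ) + q ∧
      Cfsg.classInner (fun y : K => χ (z * (y : G))) ξ = (p : ℂ) - q := by
  classical
  let w : ZMod 2 → G := fun e => if e = 0 then 1 else z
  have hw : ∀ a b, w (a + b) = w a * w b := by
    intro a b
    have h2 : ∀ x : ZMod 2, x = 0 ∨ x = 1 := by decide
    rcases h2 a with rfl | rfl <;> rcases h2 b with rfl | rfl <;>
      simp [w, hz, show (1 + 1 : ZMod 2) = 0 from rfl]
  let φ : Multiplicative (ZMod 2) × K →* G :=
    MonoidHom.mk' (fun p => w (Multiplicative.toAdd p.1) * (p.2 : G)) fun p q => by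
      have hc : Commute (w (Multiplicative.toAdd q.1)) (p.2 : G) := by
        by_cases h : Multiplicative.toAdd q.1 = 0 <;> simp only [w, h, if_true, if_false]
        · exact Commute.one_left _
        · exact hzK _ p.2.2
      simp only [Prod.fst_mul, Prod.snd_mul, toAdd_mul, hw, Subgroup.coe_mul]
      exact (mul_assoc _ _ _).trans (by rw [← mul_assoc (w _) (p.2 : G), hc.eq]; group)
  let sgn : Multiplicative (ZMod 2) →* ℂˣ :=
    MonoidHom.mk' (fun e => if Multiplicative.toAdd e = 0 then 1 else -1) fun a b => by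
      simp only [toAdd_mul]
      rcases (show ∀ x : ZMod 2, x = 0 ∨ x = 1 by decide) (Multiplicative.toAdd a) with ha | ha <;>
        rcases (show ∀ x : ZMod 2, x = 0 ∨ x = 1 by decide) (Multiplicative.toAdd b) with hb | hb <;>
        simp [ha, hb, show (1 + 1 : ZMod 2) = 0 from rfl]
  have hφ := CharInduce.IsChar.comp hχ φ
  have hp := CharInduce.IsChar.comp hξ (MonoidHom.snd (Multiplicative (ZMod 2)) K)
  have hm := CharInduce.IsChar.mul hp (CharInduce.isCharacter_hom
    (sgn.comp (MonoidHom.fst (Multiplicative (ZMod 2)) K)))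
  obtain ⟨p, hp'⟩ := classInner_isChar_nat hφ hp
  obtain ⟨q, hq'⟩ := classInner_isChar_nat hφ hm
  refine ⟨p, q, ?_⟩
  have hne : (Multiplicative.ofAdd (0 : ZMod 2)) ≠ Multiplicative.ofAdd 1 := by decide
  have huniv : (Finset.univ : Finset (Multiplicative (ZMod 2))) =
      {Multiplicative.ofAdd 0, Multiplicative.ofAdd 1} := by decide
  have hcard : (Nat.card (Multiplicative (ZMod 2) × K) : ℂ) = 2 * (Nat.card K : ℂ) := by
    rw [Nat.card_prod, show Nat.card (Multiplicative (ZMod 2)) = 2 by simp, Nat.cast_mul]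
    rfl
  simp only [classInner_def, Fintype.sum_prod_type, huniv, Finset.sum_pair hne, hcard,
    Pi.mul_apply] at hp' hq'
  simp only [φ, sgn, w, MonoidHom.mk'_apply, MonoidHom.coe_snd, MonoidHom.coe_fst,
    MonoidHom.coe_comp, Function.comp_apply, toAdd_ofAdd, if_true, one_ne_zero, if_false, one_mul,
    Units.val_one, Units.val_neg, mul_one, mul_neg, map_neg, Finset.sum_neg_distrib] at hp' hq'
  simp only [classInner_def]
  constructor
  · rw [← hp', ← hq']
    field_simp
    ring
  · rw [← hp', ← hq']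
    field_simp
    ring

/-- A character of degree three of a simple group with value `-1` at `z`: odd subgroups centralised
by `z` are abelian. -/
theorem abelian_of_degree_three [IsSimpleGroup G] {K : Subgroup G} (hK : Odd (Nat.card K)) {z : G}
    (hz : z * z = 1) (hzK : ∀ y ∈ K, z * y = y * z) {χ : Cfsg.IrrCharacter G}
    (hne : (χ : G → ℂ) ≠ fun _ => 1) (h3 : Cfsg.charDegree (χ : G → ℂ) = 3)
    (hv : (χ : G → ℂ) z = -1) : ∀ x ∈ K, ∀ y ∈ K, Commute x y := by
  classical
  cases nonempty_fintype G
  haveI : Fintype K := Fintype.ofFinite K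
  have hχ := IsIrr.isCharacter χ.2
  set θ : K → ℂ := fun y => (χ : G → ℂ) (z * (y : G)) with hθ
  have hθc : Cfsg.IsClassFunction K θ := fun g k => by
    show (χ : G → ℂ) (z * ((k * g * k⁻¹ : K) : G)) = _
    rw [show z * ((k * g * k⁻¹ : K) : G) = (k : G) * (z * (g : G)) * (k : G)⁻¹ by
      push_cast; rw [← mul_assoc, ← mul_assoc, hzK _ k.2]; group]
    exact IsIrr.isClassFunction χ.2 _ _
  have hres := CharInduce.IsChar.res hχ K
  choose p q hpq hpq' using fun ξ : Cfsg.IrrCharacter K =>
    exists_split hz hzK hχ (IsIrr.isCharacter ξ.2)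
  choose n hn hn1 hnd using fun ξ : Cfsg.IrrCharacter K => IsIrr.degree_dvd ξ.2
  have hsum : (∑ ξ, (p ξ + q ξ) * n ξ : ℕ) = 3 := by
    have h := congrFun (classFunction_expansion (IsChar.isClassFunction hres)) 1
    simp only [Finset.sum_apply, Pi.smul_apply, smul_eq_mul, OneMemClass.coe_one,
      apply_one_eq_charDegree, h3] at h
    simp only [hpq, ← apply_one_eq_charDegree, hn1] at h
    exact_mod_cast h.symm
  have hlin : ∀ ξ, p ξ + q ξ ≠ 0 → n ξ = 1 := by
    intro ξ hξ
    by_contra h1
    have hodd : Odd (n ξ) := hK.of_dvd_nat (hnd ξ).1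
    have hle : (p ξ + q ξ) * n ξ ≤ 3 :=
      hsum ▸ Finset.single_le_sum (f := fun ξ => (p ξ + q ξ) * n ξ) (fun _ _ => Nat.zero_le _)
        (Finset.mem_univ ξ)
    obtain ⟨r, hr⟩ := hodd
    have hn3 : n ξ = 3 := by
      have : n ξ ≤ (p ξ + q ξ) * n ξ := Nat.le_mul_of_pos_left _ (by omega)
      omega
    rw [hn3] at hle
    have hothers : ∀ η, η ≠ ξ → p η + q η = 0 := by
      intro η hη
      have h2 : ∑ ζ ∈ Finset.univ.erase ξ, (p ζ + q ζ) * n ζ = 0 := by
        have h4 := Finset.add_sum_erase Finset.univ (fun ζ => (p ζ + q ζ) * n ζ) (Finset.mem_univ ξ)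
        rw [hsum] at h4
        simp only [hn3] at h4
        omega
      have h5 := Finset.sum_eq_zero_iff.1 h2 η (Finset.mem_erase.2 ⟨hη, Finset.mem_univ _⟩)
      exact (mul_eq_zero.1 h5).resolve_right (by have := hn η; omega)
    have hθi : ∀ η : Cfsg.IrrCharacter K,
        Cfsg.classInner θ (η : K → ℂ) = (p η : ℂ) - q η := hpq'
    have h := congrFun (classFunction_expansion hθc) 1
    rw [Finset.sum_apply, Finset.sum_eq_single ξ (fun η _ hη => by
      rw [Pi.smul_apply, hθi η, show p η = 0 by have := hothers η hη; omega,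
        show q η = 0 by have := hothers η hη; omega]
      simp) (by simp)] at h
    simp only [Pi.smul_apply, smul_eq_mul, hθi ξ, hn1, hn3] at h
    rw [show θ 1 = -1 by simp [hθ, hv]] at h
    have h' : (-1 : ℤ) = ((p ξ : ℤ) - q ξ) * 3 := by
      refine Int.cast_injective (α := ℂ) ?_
      push_cast at h ⊢
      exact h
    omega
  intro x hx y hy
  have hcomm : (χ : G → ℂ) (x * y * x⁻¹ * y⁻¹) = (χ : G → ℂ) 1 := by
    have he := classFunction_expansion (IsChar.isClassFunction hres)
    have h1 := congrFun he (⟨x, hx⟩ * ⟨y, hy⟩ * ⟨x, hx⟩⁻¹ * ⟨y, hy⟩⁻¹)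
    have h2 := congrFun he 1
    simp only [Subgroup.coe_mul, Subgroup.coe_inv, OneMemClass.coe_one] at h1 h2
    rw [h1, h2]
    simp only [Finset.sum_apply, Pi.smul_apply, smul_eq_mul]
    refine Finset.sum_congr rfl fun ξ _ => ?_
    by_cases h : p ξ + q ξ = 0
    · rw [hpq ξ, show p ξ = 0 by omega, show q ξ = 0 by omega]; simp
    congr 1
    have hd : (ξ : K → ℂ) 1 = 1 := by rw [hn1, hlin ξ h, Nat.cast_one]
    obtain ⟨l, hl⟩ := CharInduce.IsChar.exists_hom_of_degree_one (IsIrr.isCharacter ξ.2) hd
    rw [hl, hl]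
    congr 1
    simp only [map_mul, map_inv, map_one]
    rw [mul_comm (l _) (l _), mul_inv_cancel_right, mul_inv_cancel]
  have hone := H81.SimpleDegree.faithful hne _ hcomm
  rw [mul_inv_eq_one, mul_inv_eq_iff_eq_mul] at hone
  exact hone

end Cfsg.Agent.H99.GW
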