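import Cfsg.Agent.H82.GW.Layer
import Cfsg.Agent.H99.GW.KleinCase
import Cfsg.Agent.H99.GW.KleinArith
import Cfsg.Agent.H99.GW.KleinSplit

/-!
# `LinearCharStep` for a four group Sylow `2`-subgroup
-/

open scoped ComplexConjugate

set_option autoImplicit false
set_option linter.style.haveILetI false

namespace Cfsg.Agent.H99.GW

open MonoidAlgebra BlockBasic CharBasic Cores Cfsg.Agent.GW Cfsg.Agent.H15.GW

universe u

variable {G : Type u} [Group G] [Finite G]

/-- A character of degree three and value `-1` from the principal block. -/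
theorem abelian_coreAt_of_degree_three {S : Sylow 2 G} {c s : G}
    (hD : H39.DGen (S : Subgroup G) 1 c s) (hsimp : IsSimpleGroup G) {χ : IrrCharacter G}
    (hne : (χ : G → ℂ) ≠ fun _ => 1) (h3 : charDegree (χ : G → ℂ) = 3)
    (hv : (χ : G → ℂ) c = -1) : ∀ x ∈ coreAt c, ∀ y ∈ coreAt c, Commute x y :=
  haveI := hsimp
  abelian_of_degree_three (odd_card_coreAt c)
    (H39.mul_self_of_orderOf_eq_two (by rw [hD.oc, mul_one]))
    (fun y hy => (((coreAt_klein hD).1 y).1 hy).1.symm) hne h3 hv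

/-- `LinearCharStep` at `l = 1`. -/
theorem linearCharStep_one (S : Sylow 2 G) (c s : G) (hcfg : Cfg S 1 c s) (ψ : G → ℂ)
    (hd : StableDatum (c ^ 1) ψ)
    (hmul : ∀ x ∈ coreAt (c ^ 1), ∀ y ∈ coreAt (c ^ 1), ψ (x * y) = ψ x * ψ y)
    (h1 : ψ 1 = 1) (hnt : ∃ x ∈ coreAt (c ^ 1), ψ x ≠ 1) :
    ∀ x ∈ coreAt (c ^ 1), ∀ y ∈ coreAt (c ^ 1), Commute x y := by
  classical
  cases nonempty_fintype G
  simp only [pow_one] at hd hmul hnt ⊢
  have hD := hcfg.gen
  haveI : Fact (Nat.Prime 2) := ⟨Nat.prime_two⟩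
  obtain ⟨M, hM⟩ := exists_isPModular (p := 2) Nat.prime_two
  obtain ⟨hmem, -⟩ := coreAt_klein hD
  have hl : LinDatum c ψ :=
    { toStableDatum := hd
      map_mul := fun a b ha hao hb hbo =>
        hmul a ((hmem a).2 ⟨ha, hao⟩) b ((hmem b).2 ⟨hb, hbo⟩)
      map_one := h1 }
  have hc1 : c ≠ 1 := fun h => by
    have := hd.ord
    rw [h, orderOf_one] at this
    omega
  have hu : ∃ k, orderOf c = 2 ^ k := ⟨1, by rw [hd.ord, pow_one]⟩
  choose a ha using exists_int_value hd.ord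
  obtain ⟨χ₃, x, y, z, ε, hε, hne3, hy, hv3, hx4, hy4, hz4, hx2, hy2, hz2, hrel, h44, hbeta⟩ :=
    principal_klein hM hD hcfg.simple hcfg.nonab hd.oneClass
  set F : Finset (IrrCharacter G) :=
    Finset.univ.filter fun χ => InLin M c ψ χ ∧ a χ ≠ 0 with hF
  have hFsum : ∀ w : IrrCharacter G → ℂ, (∀ χ, a χ = 0 → w χ = 0) →
      ∑ χ : IrrCharacter G, (if InLin M c ψ χ then w χ else 0) = ∑ χ ∈ F, w χ := by
    intro w hw
    rw [hF, Finset.sum_filter]
    refine Finset.sum_congr rfl fun χ _ => ?_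
    by_cases h : a χ = 0
    · simp [h, hw χ h]
    · simp [h]
  have hsq : ∑ χ ∈ F, a χ ^ 2 = 4 := by
    have h := hl.kernel_two hD hM hu hc1 hu
    rw [hFsum _ fun χ h => by rw [ha χ, h]; simp, h44] at h
    simp only [ha, map_intCast, ← sq] at h
    exact_mod_cast h
  have hdeg : ∑ χ ∈ F, a χ * (charDegree (χ : G → ℂ) : ℤ) = 0 := by
    have h := hl.kernel_one hD hM hu hc1
    rw [hFsum _ fun χ h => by rw [ha χ, h]; simp] at h
    simp only [ha, apply_one_eq_charDegree] at h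
    exact_mod_cast h
  have hsum3 : ∑ χ ∈ F, (a χ : ℂ) ^ 3 / (charDegree (χ : G → ℂ) : ℂ) =
      1 + 1 / (x : ℂ) + (ε : ℂ) / y - 1 / z := by
    have h := hl.pair_sum_eq hD hM hu hc1
    rw [hFsum _ fun χ h => by rw [ha χ, h]; simp, hbeta] at h
    rw [← h]
    refine Finset.sum_congr rfl fun χ _ => ?_
    rw [ha χ, apply_one_eq_charDegree, map_intCast]
    ring
  have habs : ∀ χ ∈ F, a χ = 1 ∨ a χ = -1 := by
    intro χ hχ
    have hne0 := (Finset.mem_filter.1 hχ).2.2
    by_contra hcon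
    push Not at hcon
    have h4 : 4 ≤ a χ ^ 2 := by
      rcases (show a χ ≤ -2 ∨ 2 ≤ a χ by omega) with h | h <;> nlinarith
    have hz0 : ∑ η ∈ F.erase χ, a η ^ 2 = 0 := by
      have h := Finset.add_sum_erase F (fun η => a η ^ 2) hχ
      rw [hsq] at h
      have : 0 ≤ ∑ η ∈ F.erase χ, a η ^ 2 := Finset.sum_nonneg fun η _ => sq_nonneg _
      omega
    have hnone : F.erase χ = ∅ := Finset.eq_empty_of_forall_notMem fun η hη =>
      (Finset.mem_filter.1 (Finset.mem_of_mem_erase hη)).2.2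
        (pow_eq_zero_iff (by norm_num) |>.1 ((Finset.sum_eq_zero_iff_of_nonneg
          fun η _ => sq_nonneg (a η)).1 hz0 η hη))
    rw [← Finset.add_sum_erase F _ hχ, hnone, Finset.sum_empty, add_zero, mul_eq_zero,
      Nat.cast_eq_zero] at hdeg
    exact hdeg.elim hne0 (charDegree_pos χ).ne'
  have hcard : F.card = 4 := by
    rw [Finset.sum_congr rfl (g := fun _ => (1 : ℤ)) fun χ hχ => by
      rcases habs χ hχ with h | h <;> simp [h], Finset.sum_const, nsmul_eq_mul, mul_one] at hsq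
    exact_mod_cast hsq
  let e : Fin 4 ≃ F := (Finset.equivFinOfCardEq hcard).symm
  have hre : ∀ {β : Type} [AddCommMonoid β] (w : IrrCharacter G → β),
      ∑ χ ∈ F, w χ = ∑ i, w (e i : IrrCharacter G) := fun w => by
    rw [← Finset.sum_coe_sort F w]
    exact (Equiv.sum_comp e fun χ : F => w χ).symm
  have htriv : ∀ χ ∈ F, ((χ : IrrCharacter G) : G → ℂ) ≠ fun _ => 1 := by
    intro χ hχ heq
    obtain ⟨w, hw, hw1⟩ := hnt
    obtain ⟨hwc, hwo⟩ := (hmem w).1 hw
    have h := (hl.sum_section hD hM hu hc1 χ).1 (Finset.mem_filter.1 hχ).2.1 w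
      (mem_regCentral.2 ⟨hwc.symm, hwo⟩)
    rw [heq, hd.ext_eq_self hwo hwc, mul_one] at h
    exact hw1 h.symm
  have hfacts := fun i : Fin 4 =>
    degree_facts hD hcfg.simple hcfg.nonab hd.oneClass (htriv _ (e i).2) (ha (e i : IrrCharacter G))
  have hle := signed_degrees_le (a := fun i => a (e i : IrrCharacter G))
    (f := fun i => charDegree ((e i : IrrCharacter G) : G → ℂ)) (fun i => habs _ (e i).2)
    (fun i => (hfacts i).1) (fun i => (hfacts i).2)
    ((hre fun χ : IrrCharacter G => a χ * (charDegree (χ : G → ℂ) : ℤ)).symm.trans hdeg)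
  have hq : ((1 + 1 / (x : ℚ) + (ε : ℚ) / y - 1 / z : ℚ) : ℂ) =
      ((∑ i, (a (e i : IrrCharacter G) : ℚ) /
        (charDegree ((e i : IrrCharacter G) : G → ℂ) : ℚ) : ℚ) : ℂ) := by
    push_cast
    rw [← hsum3, hre]
    refine Finset.sum_congr rfl fun i _ => ?_
    rcases habs _ (e i).2 with h | h <;> rw [h] <;> norm_num
  obtain ⟨rfl, rfl⟩ := (beta_small hε hx4 hy4 hz4 hx2 hy2 hz2 hrel).2
    (by rw [show _ = _ from Rat.cast_injective hq]; exact hle)
  exact abelian_coreAt_of_degree_three hD hcfg.simple hne3 hy (by rw [hv3]; norm_num)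

end Cfsg.Agent.H99.GW
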