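import Cfsg.Agent.H99.GW.KleinOrbit
import Cfsg.Agent.H84.ConstantMinus

/-!
# Gorenstein–Walter, the pure case with a four group Sylow `2`-subgroup

If `O(C(t))` has a complement-free part: `O = A D` with `A` normal in `C(t)`, `A ∩ D = 1`, and
`D` is not perfect, then a linear character of `D` lifts to `O`, its orbit under the element of
order three on the four group has one or three members, and both cases make `O` abelian.
-/

open scoped ComplexConjugate

set_option autoImplicit false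
set_option linter.style.haveILetI false

namespace Cfsg.Agent.H99.GW

open BlockBasic CharBasic Cores Cfsg.Agent.GW Cfsg.Agent.H15.GW

universe u

variable {G : Type u} [Group G] [Finite G]

/-- Every element of `C(c)` is the product of an element of `O(C(c))` and one of `S`. -/
theorem exists_core_mul {S : Sylow 2 G} {c s : G} (hD : H39.DGen (S : Subgroup G) 1 c s) {g : G}
    (hg : g * c = c * g) : ∃ y ∈ coreAt c, ∃ σ ∈ (S : Subgroup G), g = y * σ := by
  obtain ⟨hK, -⟩ := isKleinFour_of_dGen hD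
  obtain ⟨hmem, hC4⟩ := coreAt_klein hD
  set C := Subgroup.centralizer ({c} : Set G) with hC
  have hSC : (S : Subgroup G) ≤ C := fun a ha => Subgroup.mem_centralizer_singleton_iff.2 <|
    congrArg Subtype.val (hK.isMulCommutative.is_comm.comm (⟨a, ha⟩ : (S : Subgroup G))
      ⟨c, hD.mem_c⟩)
  have hOC : coreAt c ≤ C := fun y hy => Subgroup.mem_centralizer_singleton_iff.2 ((hmem y).1 hy).1
  have hO : Nat.card ((coreAt c).subgroupOf C) = Nat.card (coreAt c) :=
    Nat.card_congr (Subgroup.subgroupOfEquivOfLe hOC).toEquiv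
  have hS : Nat.card ((S : Subgroup G).subgroupOf C) = 4 := by
    rw [Nat.card_congr (Subgroup.subgroupOfEquivOfLe hSC).toEquiv, hK.card_four]
  have hcomp : Subgroup.IsComplement' ((coreAt c).subgroupOf C) ((S : Subgroup G).subgroupOf C) := by
    refine Subgroup.isComplement'_of_coprime ?_ ?_
    · rw [hO, hS, hC4, mul_comm]
    · rw [hO, hS]
      exact ((odd_card_coreAt c).coprime_two_right).pow_right 2
  obtain ⟨⟨⟨a, ha⟩, ⟨b, hb⟩⟩, hab⟩ := hcomp.2 ⟨g, Subgroup.mem_centralizer_singleton_iff.2 hg⟩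
  exact ⟨a, Subgroup.mem_subgroupOf.1 ha, b, Subgroup.mem_subgroupOf.1 hb,
    (congrArg Subtype.val hab).symm⟩

/-- The pure case at `l = 1`: `O(C(t))` is abelian. -/
theorem abelian_of_pure_klein (S : Sylow 2 G) (c s θ : G) (hcfg : Cfg S 1 c s)
    (hθc : θ * c * θ⁻¹ = s) (hθs : θ * s * θ⁻¹ = c * s) (A : Subgroup G) (hAO : A ≤ coreAt c)
    (hnorm : ∀ g : G, g * c = c * g → ∀ a ∈ A, g * a * g⁻¹ ∈ A)
    (hinf : A ⊓ pairCore c s = ⊥)
    (hsup : ∀ y ∈ coreAt c, ∃ a ∈ A, ∃ d ∈ pairCore c s, y = a * d)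
    (himp : commutator (pairCore c s) ≠ ⊤) :
    ∀ x ∈ coreAt c, ∀ y ∈ coreAt c, Commute x y := by
  classical
  obtain ⟨hK, hS4⟩ := isKleinFour_of_dGen hcfg.gen
  obtain ⟨hmem, -⟩ := coreAt_klein hcfg.gen
  obtain ⟨l, hl⟩ := H84.exists_hom_ne_one_of_imperfect himp
  have hDO : pairCore c s ≤ coreAt c := inf_le_left
  have hDc : ∀ d ∈ pairCore c s, d * c = c * d ∧ d * s = s * d := fun d hd =>
    ⟨((hmem d).1 (hDO hd)).1, Subgroup.mem_centralizer_singleton_iff.1 (Subgroup.mem_inf.1 hd).2⟩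
  choose a ha d hd had using hsup
  have huniq : ∀ (y : G) (hy : y ∈ coreAt c) (a' d' : G), a' ∈ A → d' ∈ pairCore c s →
      y = a' * d' → d y hy = d' := by
    intro y hy a' d' ha' hd' e
    have h1 : a'⁻¹ * a y hy = d' * (d y hy)⁻¹ := by
      rw [inv_mul_eq_iff_eq_mul, ← mul_assoc, eq_mul_inv_iff_mul_eq]
      exact (had y hy).symm.trans e
    have h2 : a'⁻¹ * a y hy ∈ A ⊓ pairCore c s :=
      Subgroup.mem_inf.2 ⟨mul_mem (inv_mem ha') (ha y hy), h1 ▸ mul_mem hd' (inv_mem (hd y hy))⟩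
    rw [hinf, Subgroup.mem_bot, h1, mul_inv_eq_one] at h2
    exact h2.symm
  -- the lift of a linear character of `D`
  let lift : (↥(pairCore c s) →* ℂˣ) → G → ℂ := fun μ y =>
    if hy : y ∈ coreAt c then ((μ ⟨d y hy, hd y hy⟩ : ℂˣ) : ℂ) else 0
  have liftD : ∀ μ, ∀ y (hy : y ∈ pairCore c s), lift μ y = ((μ ⟨y, hy⟩ : ℂˣ) : ℂ) := by
    intro μ y hy
    simp only [lift, dif_pos (hDO hy)]
    congr 3
    exact huniq y _ 1 y (one_mem _) hy (one_mul y).symm
  have liftmul : ∀ μ, ∀ x ∈ coreAt c, ∀ y ∈ coreAt c, lift μ (x * y) = lift μ x * lift μ y := by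
    intro μ x hx y hy
    simp only [lift, dif_pos hx, dif_pos hy, dif_pos (mul_mem hx hy), ← Units.val_mul, ← map_mul]
    congr 3
    refine huniq _ _ (a x hx * (d x hx * a y hy * (d x hx)⁻¹)) _
      (mul_mem (ha x hx) (hnorm _ (hDc _ (hd x hx)).1 _ (ha y hy)))
      (mul_mem (hd x hx) (hd y hy)) ?_
    calc x * y = a x hx * d x hx * (a y hy * d y hy) := by rw [← had x hx, ← had y hy]
      _ = _ := by group
  have lift1 : ∀ μ, lift μ 1 = 1 := by
    intro μ
    rw [liftD μ 1 (one_mem _), show (⟨1, one_mem _⟩ : ↥(pairCore c s)) = 1 from rfl, map_one,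
      Units.val_one]
  have hcomm_s : ∀ σ ∈ (S : Subgroup G), ∀ x ∈ pairCore c s, σ * x = x * σ := by
    intro σ hσ x hx
    obtain ⟨h1, h2⟩ := hDc x hx
    rcases hS4 σ hσ with rfl | rfl | rfl | rfl
    · simp
    · exact h1.symm
    · exact h2.symm
    · exact ((show Commute c x from h1.symm).mul_left (show Commute s x from h2.symm)).eq
  have liftinv : ∀ μ, ∀ g y : G, g * c = c * g → y ∈ coreAt c →
      lift μ (g * y * g⁻¹) = lift μ y := by
    intro μ g y hg hy
    obtain ⟨o, ho, σ, hσ, rfl⟩ := exists_core_mul hcfg.gen hg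
    have hσc : σ * c = c * σ := congrArg Subtype.val
      (hK.isMulCommutative.is_comm.comm (⟨σ, hσ⟩ : (S : Subgroup G)) ⟨c, hcfg.gen.mem_c⟩)
    have hy' : σ * y * σ⁻¹ = σ * a y hy * σ⁻¹ * d y hy := by
      calc σ * y * σ⁻¹ = σ * (a y hy * d y hy) * σ⁻¹ := by rw [← had y hy]
        _ = σ * a y hy * (d y hy * σ⁻¹) := by group
        _ = σ * a y hy * σ⁻¹ * d y hy := by
          rw [show d y hy * σ⁻¹ = σ⁻¹ * d y hy from
            ((Commute.inv_left (hcomm_s σ hσ _ (hd y hy))).eq).symm]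
          group
    have hA' : σ * a y hy * σ⁻¹ ∈ A := hnorm σ hσc _ (ha y hy)
    have hyO : σ * y * σ⁻¹ ∈ coreAt c := hy' ▸ mul_mem (hAO hA') (hDO (hd y hy))
    have e1 : lift μ (σ * y * σ⁻¹) = lift μ y := by
      simp only [lift, dif_pos hy, dif_pos hyO]
      congr 3
      exact huniq _ _ _ _ hA' (hd y hy) hy'
    rw [show o * σ * y * (o * σ)⁻¹ = o * (σ * y * σ⁻¹) * o⁻¹ by group,
      liftmul μ _ (mul_mem ho hyO) _ (inv_mem ho), liftmul μ _ ho _ hyO, mul_right_comm,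
      ← liftmul μ _ ho _ (inv_mem ho), mul_inv_cancel, lift1, one_mul, e1]
  -- the three characters
  have hφmem : ∀ x ∈ pairCore c s, θ⁻¹ * x * θ ∈ pairCore c s :=
    fun x hx => by
      have h : ShiftData S c s θ (fun _ _ => (1 : ℂ)) :=
        ⟨hcfg.simple, hcfg.nonab, hcfg.gen, hθc, hθs, fun _ => rfl, fun _ _ _ _ _ => by simp,
          fun _ _ _ _ _ => rfl, fun _ _ _ => rfl⟩
      exact h.conj_mem hx
  let φ : ↥(pairCore c s) →* ↥(pairCore c s) :=
    MonoidHom.mk' (fun x => ⟨θ⁻¹ * (x : G) * θ, hφmem _ x.2⟩) fun x y =>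
      Subtype.ext (by simp [mul_assoc])
  let μ : Fin 3 → (↥(pairCore c s) →* ℂˣ) := ![l, l.comp φ, (l.comp φ).comp φ]
  let lam : Fin 3 → G → ℂ := fun k => lift (μ k)
  have hθ3 : θ * θ * θ * c = c * (θ * θ * θ) := by
    have hss : s * s = 1 := H39.mul_self_of_orderOf_eq_two hcfg.gen.os
    have hcs : c * s = s * c := congrArg Subtype.val (hK.isMulCommutative.is_comm.comm
      (⟨c, hcfg.gen.mem_c⟩ : (S : Subgroup G)) ⟨s, hcfg.gen.mem_s⟩)
    refine mul_inv_eq_iff_eq_mul.1 ?_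
    calc θ * θ * θ * c * (θ * θ * θ)⁻¹ = θ * (θ * (θ * c * θ⁻¹) * θ⁻¹) * θ⁻¹ := by group
      _ = θ * (c * s) * θ⁻¹ := by rw [hθc, hθs]
      _ = (θ * c * θ⁻¹) * (θ * s * θ⁻¹) := by group
      _ = c := by rw [hθc, hθs, hcs, ← mul_assoc, hss, one_mul]
  have hμ3 : ∀ x, ((l.comp φ).comp φ).comp φ x = l x := by
    intro x
    have h1 := liftinv l (θ * θ * θ)⁻¹ (x : G) (Commute.inv_left hθ3).eq (hDO x.2)
    rw [inv_inv, show (θ * θ * θ)⁻¹ * (x : G) * (θ * θ * θ) =
      ((φ (φ (φ x)) : ↥(pairCore c s)) : G) by simp [φ, mul_assoc],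
      liftD l _ (φ (φ (φ x))).2, liftD l _ x.2] at h1
    exact Units.ext h1
  have hshift : ∀ k, ∀ y ∈ pairCore c s, lam k (θ⁻¹ * y * θ) = lam (k + 1) y := by
    intro k y hy
    simp only [lam]
    rw [liftD _ _ (hφmem y hy), liftD _ _ hy]
    congr 1
    fin_cases k
    · rfl
    · rfl
    · exact hμ3 ⟨y, hy⟩
  have hdata : ShiftData S c s θ lam :=
    ⟨hcfg.simple, hcfg.nonab, hcfg.gen, hθc, hθs, fun k => lift1 _, fun k => liftmul _,
      fun k => liftinv _, hshift⟩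
  by_cases hdist : ∀ j k, j ≠ k → ∃ y ∈ pairCore c s, lam j y ≠ lam k y
  · exact orbit3_abelian S c s θ hcfg hθc hθs lam hdata.one hdata.map_mul hdata.inv hdist hshift
  push Not at hdist
  obtain ⟨j, k, hjk, heq⟩ := hdist
  have hrot : ∀ j k, (∀ y ∈ pairCore c s, lam j y = lam k y) →
      ∀ y ∈ pairCore c s, lam (j + 1) y = lam (k + 1) y := fun j k h y hy => by
    rw [← hshift j y hy, ← hshift k y hy]
    exact h _ (hφmem y hy)
  have hall : ∀ i, ∀ y ∈ pairCore c s, lam i y = lam 0 y := by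
    have key : ∀ j, (∀ y ∈ pairCore c s, lam j y = lam (j + 1) y) →
        ∀ i, ∀ y ∈ pairCore c s, lam i y = lam 0 y := by
      intro j h i y hy
      have h1 := hrot _ _ h
      have hto : ∀ i, lam i y = lam j y := by
        intro i
        rcases (show ∀ i j : Fin 3, i = j ∨ i = j + 1 ∨ i = j + 1 + 1 by decide) i j with
          rfl | rfl | rfl
        · rfl
        · exact (h y hy).symm
        · exact ((h y hy).trans (h1 y hy)).symm
      rw [hto i, hto 0]
    rcases (show ∀ j k : Fin 3, j ≠ k → k = j + 1 ∨ j = k + 1 by decide) j k hjk with e | e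
    · exact key j (e ▸ heq)
    · exact key k fun y hy => (e ▸ heq y hy).symm
  have hallO : ∀ i, ∀ y ∈ coreAt c, lam i y = lam 0 y := by
    intro i y hy
    have h := hall i _ (hd y hy)
    simp only [lam] at h ⊢
    rw [liftD _ _ (hd y hy), liftD _ _ (hd y hy)] at h
    simpa [lift, dif_pos hy] using h
  have hsum := hdata.stableDatum
  have hψ : StableDatum c (lam 0) := by
    refine ⟨hsum.ord, hsum.oneClass, fun g y hg hy hyo =>
      liftinv _ g y hg ((hmem y).2 ⟨hy, hyo⟩), fun g y hgc hyc hyo hyw => ?_⟩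
    have h1 := hsum.fix g y hgc hyc hyo hyw
    have hy' : g⁻¹ * y * g ∈ coreAt c := by
      refine (hmem _).2 ⟨?_, odd_orderOf_conj g hyo⟩
      calc g⁻¹ * y * g * c = g⁻¹ * (y * (g * c * g⁻¹)) * g := by group
        _ = g⁻¹ * (g * c * g⁻¹ * y) * g := by rw [hyw]
        _ = c * (g⁻¹ * y * g) := by group
    simp only [Fin.sum_univ_three, hallO _ _ hy', hallO _ _ ((hmem y).2 ⟨hyc, hyo⟩)] at h1
    linear_combination (1 / 3 : ℂ) * h1
  have hnt : ∃ x ∈ coreAt c, lam 0 x ≠ 1 := by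
    obtain ⟨x, hx⟩ : ∃ x, l x ≠ 1 := by
      by_contra h
      push Not at h
      exact hl (MonoidHom.ext h)
    refine ⟨x, hDO x.2, fun h => hx (Units.ext ?_)⟩
    simp only [lam] at h
    rw [liftD _ _ x.2] at h
    simpa [μ] using h
  have h := linearCharStep_one S c s hcfg (lam 0) (by rwa [pow_one])
    (by rw [pow_one]; exact hdata.map_mul 0) (hdata.one 0) (by rwa [pow_one])
  rwa [pow_one] at h

end Cfsg.Agent.H99.GW
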