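import Cfsg.Agent.H15.GW.Arith

/-!
# Gorenstein–Walter, Sylow four group: the arithmetic after the halves lemma

`layer_absurd_two` is `H15.GW.layer_absurd` with `2 ≤ n`.
-/

set_option autoImplicit false
set_option linter.unusedVariables false

namespace Cfsg.Agent.H99.GW

open Cfsg.Agent.H15.GW

/-- No layer, also for Sylow four groups. -/
theorem layer_absurd_two {n p τ j m q₀ : ℕ} {e δ : ℤ} (hn : 2 ≤ n) (hp : p.Prime) (hp2 : Odd p)
    (hpτ : p ≤ τ) (hj : j ≤ τ) (hjo : Odd j) (hjp : (p ∣ j ∧ 0 < j) ∨ (j = 1 ∧ 1 < m))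
    (hm : Odd m) (hmp : 2 * m ≤ p + 1)
    (he : e = 1 ∨ e = -1) (hδ : δ = 1 ∨ δ = -1) (hpe : (p : ℤ) ∣ (2 : ℤ) ^ n * τ)
    (hq : (q₀ : ℤ) = 2 ^ n * τ + e) (hpp : IsPrimePow q₀)
    (hdvd : (q₀ : ℤ) ∣ m * ((2 ^ n * j * τ * m + δ) * (2 ^ n * j * τ * m + 2 * δ))) : False := by
  have hN : (4 : ℤ) ≤ 2 ^ n := le_trans (by norm_num) (pow_le_pow_right₀ (by norm_num) hn)
  have hτ3 : (3 : ℤ) ≤ τ := by
    have h3 := hp.two_le
    obtain ⟨k, hk⟩ := hp2
    omega
  have hmτ : (m : ℤ) ≤ τ := by omega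
  have hmpos : 0 < m := by rcases hm with ⟨k, hk⟩; omega
  set P : ℤ := 2 ^ n * τ with hP
  have hP8 : 4 * (τ : ℤ) ≤ P := by rw [hP]; nlinarith
  set M : ℤ := (j : ℤ) * m with hM
  -- separate the three factors
  obtain ⟨ℓ, f, hℓ, hf, hpow⟩ := hpp
  have hℓi : Prime (ℓ : ℤ) := Nat.prime_iff_prime_int.1 hℓ.nat_prime
  have hℓodd : ℓ ≠ 2 := by
    rintro rfl
    have : (2 : ℤ) ∣ P + e := by
      rw [← hq, ← hpow]; push_cast; exact dvd_pow_self 2 hf.ne'
    have h2P : (2 : ℤ) ∣ P := Dvd.dvd.mul_right (dvd_pow_self 2 (by omega)) _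
    have := (Int.dvd_add_right h2P).1 this
    rcases he with rfl | rfl <;> omega
  set A : ℤ := 2 ^ n * j * τ * m + δ with hA
  set B : ℤ := 2 ^ n * j * τ * m + 2 * δ with hB
  have cop : ∀ {u w : ℤ}, (∀ d : ℤ, d ∣ u → d ∣ w → d ∣ 2) →
      ¬((ℓ : ℤ) ∣ u ∧ (ℓ : ℤ) ∣ w) := by
    intro u w h hh
    have h2 := Int.natCast_dvd_natCast.1 (show (ℓ : ℤ) ∣ ((2 : ℕ) : ℤ) from h _ hh.1 hh.2)
    rcases (Nat.dvd_prime Nat.prime_two).1 h2 with h1 | h1
    · exact hℓ.nat_prime.one_lt.ne' h1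
    · exact hℓodd h1
  have hq' : (q₀ : ℤ) = (ℓ : ℤ) ^ f := by rw [← hpow]; push_cast; rfl
  have hδ2 : ∀ d : ℤ, d ∣ δ → d ∣ 2 := by
    intro d hd; rcases hδ with rfl | rfl
    · exact dvd_trans hd (one_dvd _)
    · exact dvd_trans hd ⟨-2, by norm_num⟩
  have hmA : ¬((ℓ : ℤ) ∣ (m : ℤ) ∧ (ℓ : ℤ) ∣ A) := cop fun d h1 h2 => by
    refine hδ2 d ((Int.dvd_add_right ?_).1 h2)
    exact Dvd.dvd.mul_left h1 _
  have hmB : ¬((ℓ : ℤ) ∣ (m : ℤ) ∧ (ℓ : ℤ) ∣ B) := cop fun d h1 h2 => by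
    have h := (Int.dvd_add_right (Dvd.dvd.mul_left h1 _)).1 h2
    rcases hδ with rfl | rfl
    · simpa using h
    · simpa using h
  have hAB : ¬((ℓ : ℤ) ∣ A ∧ (ℓ : ℤ) ∣ B) := cop fun d h1 h2 => by
    refine hδ2 d ?_
    have h : δ = B - A := by rw [hA, hB]; ring
    rw [h]
    exact dvd_sub h2 h1
  have split : (q₀ : ℤ) ∣ (m : ℤ) ∨ (q₀ : ℤ) ∣ A ∨ (q₀ : ℤ) ∣ B := by
    rw [hq'] at hdvd ⊢
    by_cases h : (ℓ : ℤ) ∣ (m : ℤ)
    · left
      have hnA : ¬(ℓ : ℤ) ∣ A := fun h' => hmA ⟨h, h'⟩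
      have hnB : ¬(ℓ : ℤ) ∣ B := fun h' => hmB ⟨h, h'⟩
      have h3 : ¬(ℓ : ℤ) ∣ A * B := fun h' => (hℓi.dvd_or_dvd h').elim hnA hnB
      exact hℓi.pow_dvd_of_dvd_mul_right f h3 hdvd
    · right
      have h3 := hℓi.pow_dvd_of_dvd_mul_left f h hdvd
      by_cases h' : (ℓ : ℤ) ∣ A
      · left
        exact hℓi.pow_dvd_of_dvd_mul_right f (fun h'' => hAB ⟨h', h''⟩) h3
      · right
        exact hℓi.pow_dvd_of_dvd_mul_left f h' h3
  have hcase : (q₀ : ℤ) ∣ M - e * δ ∨ (q₀ : ℤ) ∣ M - 2 * (e * δ) := by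
    have he2 : e * e = 1 := by rcases he with rfl | rfl <;> norm_num
    rcases split with h | h | h
    · exfalso
      have := Int.le_of_dvd (by exact_mod_cast hmpos) h
      rw [hq] at this
      rcases he with rfl | rfl <;> omega
    · left
      have h1 : M - e * δ = (q₀ : ℤ) * (e * M) - e * A := by
        rw [hq, hA, hM, hP]; linear_combination (-(j : ℤ) * m) * he2
      rw [h1]
      exact dvd_sub (Dvd.intro _ rfl) (Dvd.dvd.mul_left h _)
    · right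
      have h1 : M - 2 * (e * δ) = (q₀ : ℤ) * (e * M) - e * B := by
        rw [hq, hB, hM, hP]; linear_combination (-(j : ℤ) * m) * he2
      rw [h1]
      exact dvd_sub (Dvd.intro _ rfl) (Dvd.dvd.mul_left h _)
  -- `M = λ q₀ + c e δ`
  have main : ∀ c : ℤ, (c = 1 ∨ c = 2) → (q₀ : ℤ) ∣ M - c * (e * δ) → False := by
    intro c hc hd
    obtain ⟨l, hl⟩ := hd
    rcases hjp with ⟨hpj, hj0⟩ | ⟨rfl, hm1⟩
    swap
    · have hMm : M = (m : ℤ) := by rw [hM]; push_cast; ring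
      have hM2 : (3 : ℤ) ≤ M := by
        rw [hMm]; rcases hm with ⟨k, hk⟩; omega
      have h1 : 0 < M - c * (e * δ) := by
        rcases hc with rfl | rfl <;> rcases he with rfl | rfl <;> rcases hδ with rfl | rfl <;>
          omega
      have h2 := Int.le_of_dvd h1 ⟨l, hl⟩
      rw [hq] at h2
      rcases hc with rfl | rfl <;> rcases he with rfl | rfl <;> rcases hδ with rfl | rfl <;> omega
    -- now `p ∣ M`
    have hMp : (p : ℤ) ∣ M := Dvd.dvd.mul_right (Int.natCast_dvd_natCast.2 hpj) _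
    have hMge : (3 : ℤ) ≤ M := by
      have h3 : 3 ≤ j := le_trans (by have := hp.two_le; obtain ⟨k, hk⟩ := hp2; omega)
        (Nat.le_of_dvd hj0 hpj)
      rw [hM]; nlinarith
    have hmp' : 2 * (m : ℤ) ≤ p + 1 := by exact_mod_cast hmp
    have hMle : 2 * M ≤ (τ : ℤ) * (p + 1) := by
      rw [hM]; nlinarith [show (j : ℤ) ≤ τ by exact_mod_cast hj]
    have hq7 : 3 * (τ : ℤ) ≤ q₀ := by rw [hq]; rcases he with rfl | rfl <;> omega
    have hlpos : 0 < l := by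
      by_contra hcon
      push Not at hcon
      have : (q₀ : ℤ) * l ≤ 0 := mul_nonpos_of_nonneg_of_nonpos (by positivity) hcon
      rcases hc with rfl | rfl <;> rcases he with rfl | rfl <;> rcases hδ with rfl | rfl <;> omega
    have hl14 : 6 * l < p + 3 := by
      by_contra hcon
      push Not at hcon
      have h7 : 3 * (τ : ℤ) * l ≤ q₀ * l := mul_le_mul_of_nonneg_right hq7 hlpos.le
      have hc4 : |c * (e * δ)| ≤ 2 := by
        rcases hc with rfl | rfl <;> rcases he with rfl | rfl <;> rcases hδ with rfl | rfl <;>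
          norm_num
      have := abs_le.1 hc4
      nlinarith
    -- modulo `p`
    have hlc : (p : ℤ) ∣ l + c * δ := by
      have h1 : (p : ℤ) ∣ e * (l + c * δ) := by
        have h2 : e * (l + c * δ) = M - P * l := by
          have : M = (P + e) * l + c * (e * δ) := by rw [← hq]; linarith
          rw [this]; ring
        rw [h2]
        exact dvd_sub hMp (Dvd.dvd.mul_right hpe _)
      rcases he with rfl | rfl
      · simpa using h1
      · simpa using dvd_neg.2 h1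
    have hl0 : l + c * δ = 0 := by
      by_contra hne
      have h3 := Int.le_of_dvd (abs_pos.2 hne) ((dvd_abs _ _).2 hlc)
      have hp3 : (3 : ℤ) ≤ p := by
        have := hp.two_le; obtain ⟨k, hk⟩ := hp2; omega
      rcases hc with rfl | rfl <;> rcases hδ with rfl | rfl <;>
        rcases abs_choice (l + _ * _) with h | h <;> rw [h] at h3 <;> omega
    -- so `δ = -1` and `M = c P` is even
    have hδn : δ = -1 := by
      rcases hδ with rfl | rfl
      · exfalso; rcases hc with rfl | rfl <;> omega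
      · rfl
    subst hδn
    have hlc' : l = c := by omega
    have hMeq : M = c * P := by
      have : M = (P + e) * l + c * (e * -1) := by rw [← hq]; linarith
      rw [this, hlc']; ring
    have hMev : (2 : ℤ) ∣ M := by
      rw [hMeq]
      exact Dvd.dvd.mul_left (Dvd.dvd.mul_right (dvd_pow_self 2 (by omega)) _) _
    obtain ⟨k, hk⟩ := hjo.mul hm
    have hMo : M = 2 * (k : ℤ) + 1 := by rw [hM]; exact_mod_cast hk
    omega
  rcases hcase with h | h
  · exact main 1 (Or.inl rfl) (by simpa using h)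
  · exact main 2 (Or.inr rfl) (by simpa using h)

/-- The case of equal halves: `r = h (2 h - 1) / (2 c ^ 2)` with `c = h - 1` is impossible. -/
theorem caseL_two_absurd {p τ j m q₀ a : ℕ} {c k e : ℤ} (hp : p.Prime) (hp2 : Odd p)
    (hpτ : p ∣ τ) (hτ : 0 < τ) (hjτ : j ≤ τ) (hja : j = p ^ a) (ham : a = 0 → 1 < m)
    (hm : Odd m) (hmp : 2 * m ≤ p + 1) (hτo : Odd τ)
    (he : e = 1 ∨ e = -1) (hq : (q₀ : ℤ) = 4 * τ + e) (hpp : IsPrimePow q₀)
    (hc : c % 4 = 2) (hk : k * c ^ 2 = 4 * ((j * τ * m : ℕ) : ℤ) ^ 2 * ((c + 1) * (2 * c + 1)))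
    (hkτ : IsCoprime k (τ : ℤ)) (hkp : (p : ℤ) ∣ k - 1) (hdvd : (q₀ : ℤ) ∣ m * k) : False := by
  have hjo : Odd j := hja ▸ hp2.pow
  have hj0 : 0 < j := hja ▸ pow_pos hp.pos a
  have hm0 : 0 < m := by rcases hm with ⟨x, rfl⟩; omega
  set I : ℕ := j * τ * m with hI
  have hI0 : 0 < I := by positivity
  have hIo : Odd I := (hjo.mul hτo).mul hm
  -- `c` is prime to the numerator
  have hcop : IsCoprime c ((c + 1) * (2 * c + 1)) :=
    IsCoprime.mul_right ⟨-1, 1, by ring⟩ ⟨-2, 1, by ring⟩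
  have hdv : c ^ 2 ∣ (2 * (I : ℤ)) ^ 2 := by
    refine hcop.pow_left.dvd_of_dvd_mul_right (z := (c + 1) * (2 * c + 1)) ?_
    exact ⟨k, by rw [mul_comm (c ^ 2) k, hk]; ring⟩
  obtain ⟨d, hd⟩ := (Int.pow_dvd_pow_iff two_ne_zero).1 hdv
  obtain ⟨c', rfl⟩ : (2 : ℤ) ∣ c := Int.dvd_of_emod_eq_zero (by omega)
  have hId : (I : ℤ) = c' * d := by linarith
  have hc0 : c' ≠ 0 := fun h => by
    rw [h, zero_mul] at hId; omega
  have hk' : k = d ^ 2 * ((2 * c' + 1) * (2 * (2 * c') + 1)) := by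
    refine mul_right_cancel₀ (pow_ne_zero 2 (mul_ne_zero two_ne_zero hc0)) ?_
    rw [hk, hId]; ring
  set s := d.natAbs with hs
  -- the cofactor is `1`
  have hdd : d ∣ k := by rw [hk']; exact Dvd.dvd.mul_right (dvd_pow_self d two_ne_zero) _
  have hsk : (s : ℤ) ∣ k := Int.natAbs_dvd.2 hdd
  have hsI : s ∣ I := by
    have : (s : ℤ) ∣ (I : ℤ) := Int.natAbs_dvd.2 ⟨c', by rw [hId]; ring⟩
    exact_mod_cast this
  have hsτ : Nat.Coprime s τ := by
    have := hkτ.of_isCoprime_of_dvd_left hsk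
    exact Nat.isCoprime_iff_coprime.1 this
  have hsp : Nat.Coprime s p := hsτ.coprime_dvd_right hpτ
  have hsm : s ∣ m := by
    have h1 : s ∣ (j * τ) * m := hsI
    refine Nat.Coprime.dvd_of_dvd_mul_left ?_ h1
    exact (Nat.Coprime.mul_right (hja ▸ hsp.pow_right a) hsτ)
  have hpc : (p : ℤ) ∣ c' := by
    have hpI : p ∣ I := (hpτ.mul_left j).mul_right m
    have h1 : (p : ℤ) ∣ c' * d := hId ▸ Int.natCast_dvd_natCast.2 hpI
    refine ((Nat.prime_iff_prime_int.1 hp).dvd_or_dvd h1).resolve_right fun h => ?_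
    have h3 : p ∣ s := by exact_mod_cast (Int.dvd_natAbs.2 h : (p : ℤ) ∣ (s : ℤ))
    exact (Nat.Prime.coprime_iff_not_dvd hp).1 hsp.symm h3
  have hs1 : s = 1 := by
    have hms : (p : ℤ) ∣ ((m / (m / s) : ℕ) : ℤ) ^ 2 - 1 := by
      rw [Nat.div_div_self hsm hm0.ne', hs, Int.natAbs_sq]
      have h1 : (p : ℤ) ∣ d ^ 2 * (c' * (8 * c' + 6)) :=
        Dvd.dvd.mul_left (Dvd.dvd.mul_right hpc _) _
      have h2 : d ^ 2 - 1 = (k - 1) - d ^ 2 * (c' * (8 * c' + 6)) := by rw [hk']; ring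
      rw [h2]
      exact dvd_sub hkp h1
    have h := sigma_eq hp hm hmp (Nat.div_dvd_of_dvd hsm) hms
    have h4 := Nat.div_mul_cancel hsm
    rw [h] at h4
    exact (Nat.mul_eq_left hm0.ne').1 h4
  have hd1 : d = 1 ∨ d = -1 := Int.natAbs_eq_iff.1 hs1
  have hd2 : d * d = 1 := by rcases hd1 with rfl | rfl <;> norm_num
  refine layer_absurd_two (n := 2) (τ := τ) (j := j) (m := m) (e := e) (δ := d) le_rfl hp hp2
    (Nat.le_of_dvd hτ hpτ) hjτ hjo ?_ hm hmp he hd1 ?_ (by rw [hq]; norm_num) hpp ?_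
  · rcases a.eq_zero_or_pos with h | h
    · exact Or.inr ⟨by rw [hja, h, pow_zero], ham h⟩
    · exact Or.inl ⟨hja ▸ dvd_pow_self p h.ne', hj0⟩
  · exact Dvd.dvd.mul_left (Int.natCast_dvd_natCast.2 hpτ) _
  · rw [hk', sq, hd2, one_mul] at hdvd
    have hc' : c' = d * I := by rw [hId]; linear_combination (-c') * hd2
    have h1 : ((2 : ℤ) ^ 2 * j * τ * m + d) * ((2 : ℤ) ^ 2 * j * τ * m + 2 * d) =
        2 * ((2 * c' + 1) * (2 * (2 * c') + 1)) := by
      rw [hc', hI]; push_cast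
      linear_combination (-(16 : ℤ) * ((j : ℤ) * τ * m) ^ 2 + 2) * hd2
    rw [h1, mul_left_comm]
    exact Dvd.dvd.mul_left hdvd _

end Cfsg.Agent.H99.GW
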