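import Cfsg.Agent.BlockBasic.Orth
import Cfsg.Agent.Cores.PrincipalLambda
import Cfsg.Agent.CycOne.Galois
import Cfsg.Agent.H5.RealPrincipal
import Cfsg.Agent.CharInduce.Induce
import Cfsg.Agent.CharBasic.Virtual

/-!
# Gorenstein–Walter, Sylow four group: the halves lemma

The principal `2`-block has four characters.  If some centraliser `E × L` with `L` like
`L₂(q)` has a trivially intersecting set carrying `(ψ - 1) ⊗ (St ∓ 1)` and `(ψ - 1) ⊗ (ξ - ξ')`,
then two nontrivial members of the block have equal value at the involutions and equal degree.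
-/

set_option autoImplicit false
set_option linter.unusedSectionVars false

open scoped ComplexConjugate
open Cfsg Cfsg.Agent Cfsg.Agent.CharBasic

namespace Cfsg.Agent.H99.GW

/-- The integer part of the argument: `(a i + s i) * f i ≡ a i * s i + 1 (mod 8)`. -/
theorem absurd_full (a s f : Fin 4 → ℤ) (ha : ∀ i, a i = 1 ∨ a i = -1)
    (hs : ∀ i, s i = 1 ∨ s i = -1) (hf : ∀ i, (4 : ℤ) ∣ f i - s i)
    (has : ∑ i, a i * s i = 0) (haf : ∑ i, a i * f i = 0) (hsf : ∑ i, s i * f i = 0) : False := by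
  have key : ∀ i, (8 : ℤ) ∣ (a i + s i) * f i - (a i * s i + 1) := by
    intro i
    obtain ⟨m, hm⟩ := hf i
    have hf' : f i = 4 * m + s i := by linarith
    rcases ha i with h | h <;> rcases hs i with h' | h' <;> rw [hf', h, h'] <;> ring_nf <;> omega
  simp only [Fin.sum_univ_four] at has haf hsf
  obtain ⟨m0, h0⟩ := key 0
  obtain ⟨m1, h1⟩ := key 1
  obtain ⟨m2, h2⟩ := key 2
  obtain ⟨m3, h3⟩ := key 3
  have h4 : (4 : ℤ) + 8 * (m0 + m1 + m2 + m3) = 0 := by linarith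
  omega

/-! ### Functions on `E × L` and their integral inner products -/

section Prod

variable {G : Type*} [Group G] {E : Type*} [Group E] {L : Type*} [Group L]

/-- The function `(ψ - 1) ⊗ θ`. -/
noncomputable def twistFun (ψ : E →* ℂˣ) (θ : L → ℂ) : E × L → ℂ :=
  fun p => ((ψ p.1 : ℂ) - 1) * θ p.2

theorem isGen_twistFun [Fintype E] (ψ : E →* ℂˣ) {θ : L → ℂ} (hθ : IsGeneralizedCharacter L θ) :
    IsGeneralizedCharacter (E × L) (twistFun ψ θ) := by
  have h1 : IsGeneralizedCharacter E (fun y => (ψ y : ℂ) - 1) :=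
    CharBasic.IsGen.sub (CharBasic.IsChar.isGeneralized
        (IsIrr.isCharacter (CharInduce.isIrrCharacter_hom ψ)))
      (CharBasic.IsChar.isGeneralized (IsIrr.isCharacter CharBasic.isIrrCharacter_one))
  have h2 := CharInduce.IsGen.mul (CharInduce.IsGen.comp h1 (MonoidHom.fst E L))
    (CharInduce.IsGen.comp hθ (MonoidHom.snd E L))
  exact h2

variable [Fintype E] [Fintype L]

theorem classInner_prod (a c : E → ℂ) (b d : L → ℂ) :
    classInner (fun p : E × L => a p.1 * b p.2) (fun p => c p.1 * d p.2) =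
      classInner a c * classInner b d := by
  simp only [classInner_def, Nat.card_prod, Nat.cast_mul, mul_inv, Fintype.sum_prod_type, map_mul]
  rw [mul_mul_mul_comm, Finset.sum_mul_sum]
  refine congrArg _ (Finset.sum_congr rfl fun y _ => Finset.sum_congr rfl fun l _ => ?_)
  ring

theorem sum_hom_eq_zero {ψ : E →* ℂˣ} (hψ : ψ ≠ 1) : ∑ y : E, (ψ y : ℂ) = 0 := by
  classical
  have h : (Units.coeHom ℂ).comp ψ ≠ 1 := fun h => hψ <| MonoidHom.ext fun y =>
    Units.ext (by simpa using DFunLike.congr_fun h y)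
  simpa [h] using sum_hom_units ((Units.coeHom ℂ).comp ψ)

theorem classInner_twist_one {ψ : E →* ℂˣ} (hψ : ψ ≠ 1) :
    classInner (fun y : E => (ψ y : ℂ) - 1) (fun _ => 1) = -1 := by
  have h : (Nat.card E : ℂ) ≠ 0 := CharInduce.card_ne_zero_complex E
  simp only [classInner_def, map_one, mul_one, Finset.sum_sub_distrib, sum_hom_eq_zero hψ,
    zero_sub, Finset.sum_const, Finset.card_univ, nsmul_eq_mul, ← Nat.card_eq_fintype_card]
  field_simp

theorem classInner_twist_self {ψ : E →* ℂˣ} (hψ : ψ ≠ 1) :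
    classInner (fun y : E => (ψ y : ℂ) - 1) (fun y : E => (ψ y : ℂ) - 1) = 2 := by
  have h1 := classInner_twist_one hψ
  have h2 : classInner (fun y : E => (ψ y : ℂ) - 1) (fun y : E => (ψ y : ℂ)) = 1 := by
    have hi := CharInduce.isIrrCharacter_hom ψ
    have hne : (fun y : E => (ψ y : ℂ)) ≠ fun _ => (1 : ℂ) := fun h => hψ <| MonoidHom.ext fun y =>
      Units.ext (by simpa using congrFun h y)
    have h3 := classInner_sub_left (fun y : E => (ψ y : ℂ)) (fun _ => (1 : ℂ))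
      (fun y : E => (ψ y : ℂ))
    rw [classInner_irr_self hi,
      classInner_irr_of_ne CharBasic.isIrrCharacter_one hi hne.symm, sub_zero] at h3
    exact h3
  have h4 := classInner_sub_right (fun y : E => (ψ y : ℂ) - 1) (fun y : E => (ψ y : ℂ))
    (fun _ => (1 : ℂ))
  rw [h1, h2] at h4
  exact h4.trans (by norm_num)

variable [Fintype G]

/-- The inner product of `(ψ - 1) ⊗ θ` with a pulled back irreducible character is integral. -/
theorem exists_int_coef (i : E × L →* G) (ψ : E →* ℂˣ) {θ : L → ℂ}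
    (hθ : IsGeneralizedCharacter L θ) (ζ : IrrCharacter G) :
    ∃ n : ℤ, classInner (twistFun ψ θ) (fun p => (ζ : G → ℂ) (i p)) = n :=
  CharInduce.IsGen.exists_int_coeff (isGen_twistFun ψ hθ)
    (CharInduce.IsChar.comp (IsIrr.isCharacter ζ.2) i)

theorem twist_sub (ψ : E →* ℂˣ) (θ θ' : L → ℂ) :
    twistFun ψ (θ - θ') = twistFun ψ θ - twistFun ψ θ' := by
  funext p
  simp [twistFun, mul_sub]

theorem twist_smul (ψ : E →* ℂˣ) (c : ℂ) (θ : L → ℂ) :
    twistFun ψ (c • θ) = c • twistFun ψ θ := by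
  funext p
  simp [twistFun, mul_left_comm]

/-- Parity: `ψ` and `1` cannot occur with equal parity in `ζ|E` when `ζ` is an odd constant on
the coset `t × E`. -/
theorem not_orth [DecidableEq L] (i : E × L →* G) {ψ : E →* ℂˣ} (hψ : ψ ≠ 1) {e : ℤ} (he : Odd e)
    (St ξ ξ' : IrrCharacter L) (hSt1 : St ≠ BlockBasic.trivialIrr) (hξ1 : ξ ≠ BlockBasic.trivialIrr)
    (hξ'1 : ξ' ≠ BlockBasic.trivialIrr) (hStξ : St ≠ ξ) (hStξ' : St ≠ ξ') (hξξ' : ξ ≠ ξ')
    (hStodd : ∃ k : ℕ, (St : L → ℂ) 1 = 2 * k + 1) (hdeg : (ξ : L → ℂ) 1 = (ξ' : L → ℂ) 1)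
    (heven : ∀ θ : IrrCharacter L, θ ≠ BlockBasic.trivialIrr → θ ≠ St → θ ≠ ξ → θ ≠ ξ' →
      ∃ k : ℕ, (θ : L → ℂ) 1 = 2 * k)
    {t : L} (ht : orderOf t = 2) (ζ : IrrCharacter G) {s : ℤ} (hs : Odd s)
    (hty : ∀ y : E, (ζ : G → ℂ) (i (y, t)) = s) :
    classInner (twistFun ψ ((St : L → ℂ) - (e : ℂ) • fun _ => (1 : ℂ)))
        (fun p => (ζ : G → ℂ) (i p)) ≠ 0 ∨
      classInner (twistFun ψ ((ξ : L → ℂ) - (ξ' : L → ℂ))) (fun p => (ζ : G → ℂ) (i p)) ≠ 0 := by
  classical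
  set F : E × L → ℂ := fun p => (ζ : G → ℂ) (i p) with hF
  by_contra hcon
  rw [not_or, not_not, not_not] at hcon
  obtain ⟨h1, h2⟩ := hcon
  set one : IrrCharacter L := BlockBasic.trivialIrr with hone
  have honev : (one : L → ℂ) = fun _ => 1 := rfl
  choose n hn using fun θ : IrrCharacter L =>
    exists_int_coef i ψ (CharBasic.IsChar.isGeneralized (IsIrr.isCharacter θ.2)) ζ
  choose d hdpos hd using fun θ : IrrCharacter L => IsIrr.exists_degree θ.2
  have e1 : n St = e * n one := by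
    rw [twist_sub, classInner_sub_left, twist_smul, classInner_smul_left, ← honev, hn, hn,
      sub_eq_zero] at h1
    exact_mod_cast h1
  have e2 : n ξ = n ξ' := by
    rw [twist_sub, classInner_sub_left, hn, hn, sub_eq_zero] at h2
    exact_mod_cast h2
  -- the regular character of `L`
  have hreg : (∑ θ : IrrCharacter L, (d θ : ℂ) • twistFun ψ (θ : L → ℂ)) =
      twistFun ψ (fun l => if l = 1 then (Nat.card L : ℂ) else 0) := by
    funext p
    simp only [Finset.sum_apply, Pi.smul_apply, smul_eq_mul, twistFun]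
    rw [← sum_degree_mul_apply p.2, Finset.mul_sum]
    exact Finset.sum_congr rfl fun θ _ => by rw [hd θ]; ring
  set K : ℂ := (Nat.card E : ℂ)⁻¹ * ∑ y : E, ((ψ y : ℂ) - 1) * conj (F (y, 1)) with hK
  have hE : (Nat.card E : ℂ) ≠ 0 := CharInduce.card_ne_zero_complex E
  have hL : (Nat.card L : ℂ) ≠ 0 := CharInduce.card_ne_zero_complex L
  have hKsum : classInner (twistFun ψ (fun l => if l = 1 then (Nat.card L : ℂ) else 0)) F = K := by
    simp only [classInner_def, twistFun, Fintype.sum_prod_type, mul_ite, ite_mul, mul_zero,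
      zero_mul, Finset.sum_ite_eq', Finset.mem_univ, if_true, hK, Nat.card_prod, Nat.cast_mul,
      mul_right_comm _ (Nat.card L : ℂ), ← Finset.sum_mul]
    field_simp
  have hKint : K = ((∑ θ : IrrCharacter L, (d θ : ℤ) * n θ : ℤ) : ℂ) := by
    rw [← hKsum, ← hreg, classInner_sum_left]
    push_cast
    exact Finset.sum_congr rfl fun θ _ => by rw [classInner_smul_left, hn]
  -- even
  have hKeven : Even (∑ θ : IrrCharacter L, (d θ : ℤ) * n θ) := by
    rw [← Finset.sum_erase_add _ _ (Finset.mem_univ one),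
      ← Finset.sum_erase_add _ _ (Finset.mem_erase.2 ⟨hSt1, Finset.mem_univ St⟩),
      ← Finset.sum_erase_add _ _
        (Finset.mem_erase.2 ⟨hStξ.symm, Finset.mem_erase.2 ⟨hξ1, Finset.mem_univ ξ⟩⟩),
      ← Finset.sum_erase_add _ _ (Finset.mem_erase.2 ⟨hξξ'.symm, Finset.mem_erase.2
        ⟨hStξ'.symm, Finset.mem_erase.2 ⟨hξ'1, Finset.mem_univ ξ'⟩⟩⟩)]
    have hd1 : (d one : ℤ) = 1 := by
      have h : (1 : ℂ) = (d one : ℂ) := (congrFun honev 1).symm.trans (hd one)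
      exact_mod_cast h.symm
    obtain ⟨k, hk⟩ := hStodd
    have hdSt : (d St : ℤ) = 2 * k + 1 := by rw [hd St] at hk; exact_mod_cast hk
    have hdξ : (d ξ : ℤ) = d ξ' := by rw [hd, hd] at hdeg; exact_mod_cast hdeg
    rw [hd1, hdSt, hdξ, e1, e2, add_assoc, add_assoc, add_assoc]
    refine Even.add (Finset.even_sum _ fun θ hθ => ?_) ?_
    · simp only [Finset.mem_erase, Finset.mem_univ, and_true] at hθ
      obtain ⟨hθ', hθξ, hθSt, hθ1⟩ := hθ
      obtain ⟨k, hk⟩ := heven θ hθ1 hθSt hθξ hθ'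
      have : (d θ : ℤ) = 2 * k := by rw [hd θ] at hk; exact_mod_cast hk
      exact ⟨k * n θ, by rw [this]; ring⟩
    · obtain ⟨m, rfl⟩ := he
      exact ⟨d ξ' * n ξ' + (k * (2 * m + 1) + m + 1) * n one, by ring⟩
  -- the subgroup `⟨t⟩`
  let T : Subgroup L := Subgroup.zpowers t
  let t' : T := ⟨t, Subgroup.mem_zpowers t⟩
  let i' : E × T →* G := i.comp ((MonoidHom.id E).prodMap T.subtype)
  obtain ⟨m, hm⟩ := exists_int_coef i' ψ
    (CharBasic.IsChar.isGeneralized (IsIrr.isCharacter (isIrrCharacter_one (G := T)))) ζ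
  have hT : Nat.card T = 2 := (Nat.card_zpowers t).trans ht
  have ht1 : (1 : T) ≠ t' := fun h => by
    have : t = 1 := (congrArg Subtype.val h).symm
    rw [this, orderOf_one] at ht; omega
  have huniv : (Finset.univ : Finset T) = {1, t'} := by
    refine (Finset.eq_univ_of_card _ ?_).symm
    rw [Finset.card_pair ht1, ← Nat.card_eq_fintype_card, hT]
  have hm' : (2 : ℂ) * m = K - s := by
    rw [← hm]
    simp only [classInner_def, twistFun, Fintype.sum_prod_type, huniv, Finset.sum_pair ht1,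
      Nat.card_prod, hT, mul_one, hK]
    have hi : ∀ y : E, (ζ : G → ℂ) (i' (y, 1)) = F (y, 1) := fun y => rfl
    have hit : ∀ y : E, (ζ : G → ℂ) (i' (y, t')) = s := hty
    simp only [hi, hit, Finset.sum_add_distrib, map_intCast, ← Finset.sum_mul,
      Finset.sum_sub_distrib, sum_hom_eq_zero hψ, Finset.sum_const, Finset.card_univ,
      nsmul_eq_mul, ← Nat.card_eq_fintype_card]
    push_cast
    field_simp
    ring
  rw [hKint] at hm'
  have : 2 * m = (∑ θ : IrrCharacter L, (d θ : ℤ) * n θ) - s := by exact_mod_cast hm'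
  obtain ⟨a, ha⟩ := hKeven
  obtain ⟨b, hb⟩ := hs
  omega

end Prod

/-! ### Induction from a trivially intersecting set -/

section Ind

variable {G : Type*} [Group G] [Fintype G] {E : Type*} [Group E] [Fintype E] {L : Type*} [Group L]
  [Fintype L] {i : E × L →* G} (hi : Function.Injective i)

/-- A function on `E × L` seen on the image of `i`. -/
noncomputable def liftFun (g : E × L → ℂ) : i.range → ℂ :=
  fun x => g ((MonoidHom.ofInjective hi).symm x)

theorem liftFun_mk (g : E × L → ℂ) (p : E × L) : liftFun hi g ⟨i p, p, rfl⟩ = g p := by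
  rw [liftFun]
  congr 1
  exact (MonoidHom.ofInjective hi).symm_apply_apply p

theorem classInner_lift [Fintype i.range] (g h : E × L → ℂ) :
    classInner (liftFun hi g) (liftFun hi h) = classInner g h := by
  simp only [classInner_def, Nat.card_congr (MonoidHom.ofInjective hi).toEquiv]
  exact congrArg _ (Fintype.sum_equiv (MonoidHom.ofInjective hi).symm.toEquiv _ _ fun x => rfl)

theorem classInner_ind [Fintype i.range] (g : E × L → ℂ) {χ : G → ℂ}
    (hχ : IsClassFunction G χ) :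
    classInner (indFun i.range (liftFun hi g)) χ = classInner g (fun p => χ (i p)) := by
  rw [CharInduce.classInner_indFun_left _ _ _ hχ]
  rw [← classInner_lift hi g (fun p => χ (i p))]
  congr 1
  funext x
  obtain ⟨p, hp⟩ := x.2
  have : x = ⟨i p, p, rfl⟩ := Subtype.ext hp.symm
  rw [this, liftFun_mk]

variable {Δ : Set L}

theorem indFun_eq_on
    (hTI : ∀ p q : E × L, p.1 ≠ 1 → p.2 ∈ Δ → q.1 ≠ 1 → q.2 ∈ Δ → ∀ x : G,
      x⁻¹ * i p * x = i q → x ∈ i.range)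
    (g : E × L → ℂ) (hg : IsClassFunction (E × L) g)
    (hgA : ∀ p : E × L, ¬ (p.1 ≠ 1 ∧ p.2 ∈ Δ) → g p = 0)
    {p : E × L} (hp : p.1 ≠ 1 ∧ p.2 ∈ Δ) :
    indFun i.range (liftFun hi g) (i p) = g p := by
  classical
  have h : ∀ x : G, extendByZero i.range (liftFun hi g) (x⁻¹ * i p * x)
      = if x ∈ i.range then g p else 0 := by
    intro x
    split_ifs with hx
    · obtain ⟨r, rfl⟩ := hx
      have e : (i r)⁻¹ * i p * i r = i (r⁻¹ * p * r) := by simp
      rw [e, CharInduce.extendByZero_of_mem _ (MonoidHom.mem_range.2 ⟨_, rfl⟩), liftFun_mk]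
      simpa using hg p r⁻¹
    · by_cases hy : x⁻¹ * i p * x ∈ i.range
      · obtain ⟨q, hq⟩ := hy
        rw [← hq, CharInduce.extendByZero_of_mem _ (MonoidHom.mem_range.2 ⟨_, rfl⟩), liftFun_mk]
        exact hgA q fun hqA => hx (hTI p q hp.1 hp.2 hqA.1 hqA.2 x hq.symm)
      · rw [CharInduce.extendByZero_of_not_mem _ hy]
  simp only [indFun, h]
  rw [← Finset.sum_filter, Finset.sum_const, nsmul_eq_mul]
  have hc : (Finset.univ.filter fun x : G => x ∈ i.range).card = Nat.card i.range := by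
    rw [Nat.card_eq_fintype_card, Fintype.card_subtype]
  rw [hc, ← mul_assoc, inv_mul_cancel₀ (CharInduce.card_ne_zero_complex _), one_mul]

theorem ind_norm
    (hTI : ∀ p q : E × L, p.1 ≠ 1 → p.2 ∈ Δ → q.1 ≠ 1 → q.2 ∈ Δ → ∀ x : G,
      x⁻¹ * i p * x = i q → x ∈ i.range)
    (g : E × L → ℂ) (hg : IsClassFunction (E × L) g)
    (hgA : ∀ p : E × L, ¬ (p.1 ≠ 1 ∧ p.2 ∈ Δ) → g p = 0) :
    classInner (indFun i.range (liftFun hi g)) (indFun i.range (liftFun hi g)) =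
      classInner g g := by
  classical
  rw [classInner_ind hi g (CharInduce.isClassFunction_indFun _ _)]
  simp only [classInner_def]
  refine congrArg _ (Finset.sum_congr rfl fun p _ => ?_)
  by_cases hp : p.1 ≠ 1 ∧ p.2 ∈ Δ
  · rw [indFun_eq_on hi hTI g hg hgA hp]
  · rw [hgA p hp, zero_mul, zero_mul]

theorem ind_singular
    (hodd : ∀ p : E × L, p.1 ≠ 1 → p.2 ∈ Δ → ¬ 2 ∣ orderOf p)
    (g : E × L → ℂ) (hgA : ∀ p : E × L, ¬ (p.1 ≠ 1 ∧ p.2 ∈ Δ) → g p = 0)
    {x : G} (hx : 2 ∣ orderOf x) : indFun i.range (liftFun hi g) x = 0 := by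
  simp only [indFun]
  refine mul_eq_zero_of_right _ (Finset.sum_eq_zero fun y _ => ?_)
  by_cases hy : y⁻¹ * x * y ∈ i.range
  · obtain ⟨q, hq⟩ := hy
    rw [← hq, CharInduce.extendByZero_of_mem _ (MonoidHom.mem_range.2 ⟨_, rfl⟩), liftFun_mk]
    refine hgA q fun hqA => hodd q hqA.1 hqA.2 ?_
    rw [← orderOf_injective i hi q, hq]
    have e : y⁻¹ * x * y = MulAut.conj y⁻¹ x := by simp
    rw [e, MulEquiv.orderOf_eq]
    exact hx
  · rw [CharInduce.extendByZero_of_not_mem _ hy]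

theorem ind_gal (σ : ℂ ≃+* ℂ) (g : E × L → ℂ) (hg : ∀ p, σ (g p) = -g p) (x : G) :
    σ (indFun i.range (liftFun hi g) x) = -indFun i.range (liftFun hi g) x := by
  simp only [indFun, map_mul, map_inv₀, map_natCast, map_sum]
  rw [← mul_neg, ← Finset.sum_neg_distrib]
  refine congrArg _ (Finset.sum_congr rfl fun y _ => ?_)
  by_cases hy : y⁻¹ * x * y ∈ i.range
  · rw [CharInduce.extendByZero_of_mem _ hy]
    exact hg _
  · rw [CharInduce.extendByZero_of_not_mem _ hy, map_zero, neg_zero]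

end Ind

/-! ### Block components -/

section Block

variable {G : Type*} [Group G] [Fintype G]

/-- A class function vanishing on the singular elements has block component orthogonal to
the values of the block at a singular element. -/
theorem sum_block_singular {M : Ideal AlgInt} (hM : IsPModular 2 M) {B : Set (IrrCharacter G)}
    (hB : IsPBlock M B) (Φ : G → ℂ) (hΦ : ∀ x : G, 2 ∣ orderOf x → Φ x = 0) {z : G}
    (hz : 2 ∣ orderOf z) :
    ∑ᶠ χ ∈ B, classInner Φ (χ : G → ℂ) * (χ : G → ℂ) z = 0 := by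
  classical
  have : Fact (Nat.Prime 2) := ⟨Nat.prime_two⟩
  rw [finsum_mem_eq_toFinset_sum]
  simp only [classInner_def, mul_assoc, Finset.sum_mul]
  rw [← Finset.mul_sum, Finset.sum_comm]
  refine mul_eq_zero_of_right _ (Finset.sum_eq_zero fun x _ => ?_)
  rw [← Finset.mul_sum]
  by_cases hx : 2 ∣ orderOf x
  · rw [hΦ x hx, zero_mul]
  · refine mul_eq_zero_of_right _ ?_
    have h := BlockBasic.blockKernel_eq_zero_of_regular_of_singular hM hB hx hz
    rw [BlockBasic.blockKernel, finsum_mem_eq_toFinset_sum] at h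
    have h' := congrArg (starRingEnd ℂ) h
    simp only [map_sum, map_mul, Complex.conj_conj, map_zero] at h'
    exact h'

theorem classInner_gal (σ : ℂ ≃+* ℂ) (Φ : G → ℂ) (χ : IrrCharacter G) :
    σ (classInner Φ (χ : G → ℂ)) =
      classInner (fun x => σ (Φ x)) (CycOne.galIrr σ χ : G → ℂ) := by
  simp only [classInner_def, map_mul, map_inv₀, map_natCast, map_sum, CycOne.galIrr_apply]
  refine congrArg _ (Finset.sum_congr rfl fun x _ => congrArg _ ?_)
  rw [← IsChar.inv_apply (IsIrr.isCharacter χ.2) x, ← CycOne.galIrr_apply, ← CycOne.galIrr_apply]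
  exact IsChar.inv_apply (IsIrr.isCharacter (CycOne.galIrr σ χ).2) x

theorem galIrr_mem_principal {M : Ideal AlgInt} (hM : IsPModular 2 M) (σ : ℂ ≃+* ℂ)
    {χ : IrrCharacter G} (h : χ ∈ principalBlock M G) :
    CycOne.galIrr σ χ ∈ principalBlock M G := by
  classical
  have : Fact (Nat.Prime 2) := ⟨Nat.prime_two⟩
  rw [Cores.mem_principalBlock_iff_sum_regular hM] at h ⊢
  simp only [CycOne.galIrr_apply, ← map_sum]
  rw [H5.RealPrincipal.sum_regular_fixed 2 σ (IsIrr.isCharacter χ.2)]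
  exact h

/-- The block argument, for two given generalised characters. -/
theorem pair_of_functions {M : Ideal AlgInt} (hM : IsPModular 2 M) {z : G} (hz : 2 ∣ orderOf z)
    (χ : Fin 4 → IrrCharacter G) (hinj : Function.Injective χ)
    (hB : principalBlock M G = Set.range χ) (s f : Fin 4 → ℤ)
    (hs : ∀ j, s j = 1 ∨ s j = -1) (hval : ∀ j, (χ j : G → ℂ) z = s j)
    (hf : ∀ j, (χ j : G → ℂ) 1 = f j) (hmod : ∀ j, (4 : ℤ) ∣ f j - s j)
    (Φ₁ Φ₂ : G → ℂ) (h1g : IsGeneralizedCharacter G Φ₁) (h1v : ∀ x, 2 ∣ orderOf x → Φ₁ x = 0)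
    (h11 : Φ₁ 1 = 0) (h1n : classInner Φ₁ Φ₁ = 4)
    (h10 : classInner Φ₁ (χ 0 : G → ℂ) ≠ 0)
    (h20 : classInner Φ₂ (χ 0 : G → ℂ) = 0) (h2g : IsGeneralizedCharacter G Φ₂)
    (σ : ℂ ≃+* ℂ) (h2σ : ∀ x, σ (Φ₂ x) = -Φ₂ x)
    (hpar : ∀ j : Fin 4, j ≠ 0 →
      classInner Φ₁ (χ j : G → ℂ) ≠ 0 ∨ classInner Φ₂ (χ j : G → ℂ) ≠ 0) :
    ∃ j k : Fin 4, j ≠ 0 ∧ k ≠ 0 ∧ j ≠ k ∧ s j = s k ∧ f j = f k := by
  classical
  have : Fact (Nat.Prime 2) := ⟨Nat.prime_two⟩
  choose b hb using fun j =>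
    CharInduce.IsGen.exists_int_coeff h2g (IsIrr.isCharacter (χ j).2)
  have hblock := BlockBasic.isPBlock_principalBlock (G := G) M
  by_cases hex : ∃ j, b j ≠ 0
  · obtain ⟨j, hj⟩ := hex
    have hmem : CycOne.galIrr σ (χ j) ∈ Set.range χ :=
      hB ▸ galIrr_mem_principal hM σ (hB ▸ ⟨j, rfl⟩)
    obtain ⟨k, hk⟩ := hmem
    have hbk : b k = -b j := by
      have h := classInner_gal σ Φ₂ (χ j)
      rw [hb, map_intCast, ← hk] at h
      have e : (fun x => σ (Φ₂ x)) = -Φ₂ := funext h2σ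
      rw [e, classInner_neg_left, hb] at h
      have : b j = -b k := by exact_mod_cast h
      omega
    have hb0 : b 0 = 0 := by exact_mod_cast (hb 0).symm.trans h20
    refine ⟨j, k, fun e => hj (e ▸ hb0), fun e => hj ?_, fun e => hj ?_, ?_, ?_⟩
    · rw [e, hb0] at hbk; omega
    · rw [← e] at hbk; omega
    · have e := hval k
      rw [hk, CycOne.galIrr_apply, hval, map_intCast] at e
      exact_mod_cast e
    · have e := hf k
      rw [hk, CycOne.galIrr_apply, hf, map_intCast] at e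
      exact_mod_cast e
  · exfalso
    push Not at hex
    obtain ⟨m, hm, hΦ⟩ := CharBasic.IsGen.exists_int_mult h1g
    set a : Fin 4 → ℤ := fun j => m (χ j) with hadef
    have ha0 : ∀ j, a j ≠ 0 := by
      intro j hj
      have hz' : classInner Φ₁ (χ j : G → ℂ) = 0 := by rw [hm]; exact_mod_cast hj
      rcases eq_or_ne j 0 with rfl | hj0
      · exact h10 hz'
      · rcases hpar j hj0 with h | h
        · exact h hz'
        · exact h (by rw [hb, hex j, Int.cast_zero])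
    have hsq : (∑ ψ : IrrCharacter G, m ψ * m ψ : ℤ) = 4 := by
      have h2 := classInner_eq_sum (ψ := Φ₁) (CharBasic.IsGen.isClassFunction h1g)
      simp only [hm, map_intCast, h1n] at h2
      exact_mod_cast h2.symm
    set S : Finset (IrrCharacter G) := Finset.univ.image χ
    have hS : ∀ F : IrrCharacter G → ℤ, ∑ ψ ∈ S, F ψ = ∑ j, F (χ j) :=
      fun F => Finset.sum_image (fun _ _ _ _ h => hinj h)
    have hge : ∀ j, 1 ≤ a j * a j := fun j => Int.add_one_le_iff.2 (mul_self_pos.2 (ha0 j))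
    have hsplit := Finset.sum_add_sum_compl S (fun ψ => m ψ * m ψ)
    rw [hsq, hS] at hsplit
    have hnn : 0 ≤ ∑ ψ ∈ Sᶜ, m ψ * m ψ := Finset.sum_nonneg fun ψ _ => mul_self_nonneg _
    simp only [Fin.sum_univ_four] at hsplit
    have hg0 := hge 0
    have hg1 := hge 1
    have hg2 := hge 2
    have hg3 := hge 3
    simp only [hadef] at hg0 hg1 hg2 hg3
    have hout : ∀ ψ ∉ S, m ψ = 0 := fun ψ hψ => mul_self_eq_zero.1 <|
      (Finset.sum_eq_zero_iff_of_nonneg fun ψ _ => mul_self_nonneg (m ψ)).1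
        (by linarith) ψ (Finset.mem_compl.2 hψ)
    have hunit : ∀ j, a j = 1 ∨ a j = -1 := by
      intro j
      refine Int.eq_one_or_neg_one_of_mul_eq_one (v := a j) ?_
      obtain rfl | rfl | rfl | rfl : j = 0 ∨ j = 1 ∨ j = 2 ∨ j = 3 := by omega
      all_goals simp only [hadef]; linarith
    refine absurd_full a s f hunit hs hmod ?_ ?_ ?_
    · have h := sum_block_singular hM hblock Φ₁ h1v hz
      rw [hB, finsum_mem_range hinj, finsum_eq_sum_of_fintype] at h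
      simp only [hm, hval] at h
      exact_mod_cast h
    · have h := congrFun hΦ 1
      rw [h11, Finset.sum_apply, ← Finset.sum_subset (Finset.subset_univ S)
        (fun ψ _ hψ => by simp [hout ψ hψ]), Finset.sum_image (fun _ _ _ _ h => hinj h)] at h
      simp only [Pi.smul_apply, smul_eq_mul, hf] at h
      exact_mod_cast h.symm
    · have h := BlockBasic.blockKernel_eq_zero_of_regular_of_singular hM hblock
        (g := (1 : G)) (h := z) (by simp) hz
      rw [BlockBasic.blockKernel, hB, finsum_mem_range hinj, finsum_eq_sum_of_fintype] at h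
      simp only [hf, hval, map_intCast] at h
      have h' : ∑ j, f j * s j = 0 := by exact_mod_cast h
      simpa [mul_comm] using h'

end Block

/-- **Halves lemma.**  Two nontrivial characters of the principal block have the same value
at the involutions and the same degree. -/
theorem halves {G : Type*} [Group G] [Fintype G] {M : Ideal AlgInt} (hM : IsPModular 2 M)
    {z : G} (hz : 2 ∣ orderOf z)
    (χ : Fin 4 → IrrCharacter G) (hinj : Function.Injective χ)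
    (hχ0 : (χ 0 : G → ℂ) = fun _ => 1) (hB : principalBlock M G = Set.range χ)
    (s f : Fin 4 → ℤ) (hs : ∀ j, s j = 1 ∨ s j = -1) (hval : ∀ j, (χ j : G → ℂ) z = s j)
    (hf : ∀ j, (χ j : G → ℂ) 1 = f j) (hmod : ∀ j, (4 : ℤ) ∣ f j - s j)
    {E : Type*} [Group E] [Fintype E] {L : Type*} [Group L] [Fintype L]
    (i : E × L →* G) (hi : Function.Injective i) (Δ : Set L)
    (hodd : ∀ p : E × L, p.1 ≠ 1 → p.2 ∈ Δ → ¬ 2 ∣ orderOf p)
    (hTI : ∀ p q : E × L, p.1 ≠ 1 → p.2 ∈ Δ → q.1 ≠ 1 → q.2 ∈ Δ → ∀ x : G,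
      x⁻¹ * i p * x = i q → x ∈ i.range)
    {ψ : E →* ℂˣ} (hψ : ψ ≠ 1) {e : ℤ} (he : e = 1 ∨ e = -1)
    (St ξ ξ' : IrrCharacter L) (hSt1 : St ≠ BlockBasic.trivialIrr) (hξ1 : ξ ≠ BlockBasic.trivialIrr)
    (hξ'1 : ξ' ≠ BlockBasic.trivialIrr) (hStξ : St ≠ ξ) (hStξ' : St ≠ ξ') (hξξ' : ξ ≠ ξ')
    (hStodd : ∃ k : ℕ, (St : L → ℂ) 1 = 2 * k + 1) (hdeg : (ξ : L → ℂ) 1 = (ξ' : L → ℂ) 1)
    (heven : ∀ θ : IrrCharacter L, θ ≠ BlockBasic.trivialIrr → θ ≠ St → θ ≠ ξ → θ ≠ ξ' →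
      ∃ k : ℕ, (θ : L → ℂ) 1 = 2 * k)
    (hSt : ∀ l ∉ Δ, (St : L → ℂ) l = e) (hξΔ : ∀ l ∉ Δ, (ξ : L → ℂ) l = (ξ' : L → ℂ) l)
    (σ : ℂ ≃+* ℂ) (hσψ : ∀ y, σ (ψ y : ℂ) = ψ y)
    (hσξ : ∀ l, σ ((ξ : L → ℂ) l) = (ξ' : L → ℂ) l)
    (hσξ' : ∀ l, σ ((ξ' : L → ℂ) l) = (ξ : L → ℂ) l)
    {t : L} (ht : orderOf t = 2)
    (hty : ∀ (j : Fin 4) (y : E), (χ j : G → ℂ) (i (y, t)) = s j) :
    ∃ j k : Fin 4, j ≠ 0 ∧ k ≠ 0 ∧ j ≠ k ∧ s j = s k ∧ f j = f k := by
  classical
  set φ₁ : L → ℂ := (St : L → ℂ) - (e : ℂ) • fun _ => (1 : ℂ) with hφ₁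
  set φ₂ : L → ℂ := (ξ : L → ℂ) - (ξ' : L → ℂ) with hφ₂
  have hone : IsGeneralizedCharacter L (fun _ : L => (1 : ℂ)) :=
    CharBasic.IsChar.isGeneralized (IsIrr.isCharacter isIrrCharacter_one)
  have hg₁ : IsGeneralizedCharacter L φ₁ := by
    rw [hφ₁, Int.cast_smul_eq_zsmul]
    exact CharBasic.IsGen.sub (CharBasic.IsChar.isGeneralized (IsIrr.isCharacter St.2))
      (CharInduce.IsGen.zsmul hone e)
  have hg₂ : IsGeneralizedCharacter L φ₂ :=
    CharBasic.IsGen.sub (CharBasic.IsChar.isGeneralized (IsIrr.isCharacter ξ.2))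
      (CharBasic.IsChar.isGeneralized (IsIrr.isCharacter ξ'.2))
  have hA : ∀ φ : L → ℂ, (∀ l ∉ Δ, φ l = 0) →
      ∀ p : E × L, ¬ (p.1 ≠ 1 ∧ p.2 ∈ Δ) → twistFun ψ φ p = 0 := by
    intro φ hφ p hp
    rcases not_and_or.1 hp with h | h
    · rw [twistFun, not_not.1 h, map_one]; simp
    · rw [twistFun, hφ _ h, mul_zero]
  have hA₁ := hA φ₁ fun l hl => by simp [hφ₁, hSt l hl]
  have hA₂ := hA φ₂ fun l hl => by simp [hφ₂, hξΔ l hl]
  have hlift : ∀ φ : L → ℂ, IsGeneralizedCharacter L φ →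
      IsGeneralizedCharacter G (indFun i.range (liftFun hi (twistFun ψ φ))) := fun φ hφ =>
    CharInduce.IsGen.ind _
      (CharInduce.IsGen.comp (isGen_twistFun ψ hφ) (MonoidHom.ofInjective hi).symm.toMonoidHom)
  have hcoef : ∀ (φ : L → ℂ) (j : Fin 4),
      classInner (indFun i.range (liftFun hi (twistFun ψ φ))) (χ j : G → ℂ) =
        classInner (twistFun ψ φ) (fun p => (χ j : G → ℂ) (i p)) :=
    fun φ j => classInner_ind hi _ (IsIrr.isClassFunction (χ j).2)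
  have h0 : ∀ φ : L → ℂ, classInner (indFun i.range (liftFun hi (twistFun ψ φ))) (χ 0 : G → ℂ) =
      -classInner φ (fun _ => 1) := by
    intro φ
    rw [hcoef, hχ0]
    have := classInner_prod (fun y : E => (ψ y : ℂ) - 1) (fun _ => 1) φ (fun _ => 1)
    simp only [mul_one, classInner_twist_one hψ, neg_one_mul] at this
    exact this
  have e1 : (BlockBasic.trivialIrr : IrrCharacter L).1 = fun _ => (1 : ℂ) := rfl
  have hφone₁ : classInner φ₁ (fun _ => 1) = -e := by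
    rw [hφ₁, classInner_sub_left, classInner_smul_left, ← e1, classInner_irrCharacter,
      classInner_irrCharacter, if_neg hSt1, if_pos rfl]
    ring
  have hφone₂ : classInner φ₂ (fun _ => 1) = 0 := by
    rw [hφ₂, classInner_sub_left, ← e1, classInner_irrCharacter,
      classInner_irrCharacter, if_neg hξ1, if_neg hξ'1, sub_zero]
  have hnorm₁ : classInner φ₁ φ₁ = 2 := by
    rw [hφ₁, classInner_sub_left, classInner_sub_right, classInner_sub_right,
      classInner_smul_left, classInner_smul_left, classInner_smul_right, classInner_smul_right,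
      ← e1]
    simp only [classInner_irrCharacter, if_neg hSt1, if_neg hSt1.symm, map_intCast]
    rcases he with rfl | rfl <;> norm_num
  refine pair_of_functions hM hz χ hinj hB s f hs hval hf hmod
    (indFun i.range (liftFun hi (twistFun ψ φ₁))) (indFun i.range (liftFun hi (twistFun ψ φ₂)))
    (hlift φ₁ hg₁) (fun x hx => ind_singular hi hodd _ hA₁ hx) ?_ ?_ ?_ ?_ (hlift φ₂ hg₂) σ
    (fun x => ind_gal hi σ _ ?_ x) fun j _ => ?_
  · rw [CharInduce.indFun_one, liftFun, map_one, twistFun]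
    simp
  · rw [ind_norm hi hTI _ (CharBasic.IsGen.isClassFunction (isGen_twistFun ψ hg₁)) hA₁]
    have := classInner_prod (fun y : E => (ψ y : ℂ) - 1) (fun y : E => (ψ y : ℂ) - 1) φ₁ φ₁
    rw [classInner_twist_self hψ, hnorm₁] at this
    exact this.trans (by norm_num)
  · rw [h0, hφone₁, neg_neg]
    rcases he with rfl | rfl <;> norm_num
  · rw [h0, hφone₂, neg_zero]
  · intro p
    simp only [twistFun, hφ₂, Pi.sub_apply, map_mul, map_sub, map_one, hσψ, hσξ, hσξ']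
    ring
  · simp only [hcoef]
    have ho : Odd (s j) := by rcases hs j with h | h <;> rw [h] <;> decide
    have hoe : Odd e := by rcases he with rfl | rfl <;> decide
    exact not_orth i hψ hoe St ξ ξ' hSt1 hξ1 hξ'1 hStξ hStξ' hξξ' hStodd hdeg heven ht (χ j) ho
      (hty j)

/-- The halves lemma in the notation of `S0948`: with `ε = 1` the pair is `ζ₂, ζ₃`,
with `ε = -1` it is `ζ₃, ζ₄`. -/
theorem halves_klein {G : Type*} [Group G] [Fintype G] {M : Ideal AlgInt} (hM : IsPModular 2 M)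
    (ζ₂ ζ₃ ζ₄ : IrrCharacter G) {ε : ℤ} (hε : ε = 1 ∨ ε = -1)
    (h2 : (ζ₂ : G → ℂ) ≠ fun _ => 1) (h3 : (ζ₃ : G → ℂ) ≠ fun _ => 1)
    (h4 : (ζ₄ : G → ℂ) ≠ fun _ => 1) (h23 : ζ₂ ≠ ζ₃) (h24 : ζ₂ ≠ ζ₄) (h34 : ζ₃ ≠ ζ₄)
    (hB : principalBlock M G = {χ : IrrCharacter G |
      (χ : G → ℂ) = (fun _ => 1) ∨ χ = ζ₂ ∨ χ = ζ₃ ∨ χ = ζ₄})
    {z : G} (hz : 2 ∣ orderOf z)
    (hval : (ζ₂ : G → ℂ) z = 1 ∧ (ζ₃ : G → ℂ) z = (ε : ℂ) ∧ (ζ₄ : G → ℂ) z = -1)
    (hd2 : (4 : ℤ) ∣ (charDegree (ζ₂ : G → ℂ) : ℤ) - 1)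
    (hd3 : (4 : ℤ) ∣ (charDegree (ζ₃ : G → ℂ) : ℤ) - ε)
    (hd4 : (4 : ℤ) ∣ (charDegree (ζ₄ : G → ℂ) : ℤ) + 1)
    {E : Type*} [Group E] [Fintype E] {L : Type*} [Group L] [Fintype L]
    (i : E × L →* G) (hi : Function.Injective i) (Δ : Set L)
    (hodd : ∀ p : E × L, p.1 ≠ 1 → p.2 ∈ Δ → ¬ 2 ∣ orderOf p)
    (hTI : ∀ p q : E × L, p.1 ≠ 1 → p.2 ∈ Δ → q.1 ≠ 1 → q.2 ∈ Δ → ∀ x : G,
      x⁻¹ * i p * x = i q → x ∈ i.range)
    {ψ : E →* ℂˣ} (hψ : ψ ≠ 1) {e : ℤ} (he : e = 1 ∨ e = -1)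
    (St ξ ξ' : IrrCharacter L) (hSt1 : St ≠ BlockBasic.trivialIrr) (hξ1 : ξ ≠ BlockBasic.trivialIrr)
    (hξ'1 : ξ' ≠ BlockBasic.trivialIrr) (hStξ : St ≠ ξ) (hStξ' : St ≠ ξ') (hξξ' : ξ ≠ ξ')
    (hStodd : ∃ k : ℕ, (St : L → ℂ) 1 = 2 * k + 1) (hdeg : (ξ : L → ℂ) 1 = (ξ' : L → ℂ) 1)
    (heven : ∀ θ : IrrCharacter L, θ ≠ BlockBasic.trivialIrr → θ ≠ St → θ ≠ ξ → θ ≠ ξ' →
      ∃ k : ℕ, (θ : L → ℂ) 1 = 2 * k)
    (hSt : ∀ l ∉ Δ, (St : L → ℂ) l = e) (hξΔ : ∀ l ∉ Δ, (ξ : L → ℂ) l = (ξ' : L → ℂ) l)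
    (σ : ℂ ≃+* ℂ) (hσψ : ∀ y, σ (ψ y : ℂ) = ψ y)
    (hσξ : ∀ l, σ ((ξ : L → ℂ) l) = (ξ' : L → ℂ) l)
    (hσξ' : ∀ l, σ ((ξ' : L → ℂ) l) = (ξ : L → ℂ) l)
    {t : L} (ht : orderOf t = 2)
    (hty : ∀ y : E, (ζ₂ : G → ℂ) (i (y, t)) = 1 ∧ (ζ₃ : G → ℂ) (i (y, t)) = (ε : ℂ) ∧
      (ζ₄ : G → ℂ) (i (y, t)) = -1) :
    (ε = 1 → charDegree (ζ₂ : G → ℂ) = charDegree (ζ₃ : G → ℂ)) ∧
      (ε = -1 → charDegree (ζ₃ : G → ℂ) = charDegree (ζ₄ : G → ℂ)) := by
  classical
  set one : IrrCharacter G := BlockBasic.trivialIrr with hone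
  have hne : ∀ χ : IrrCharacter G, (χ : G → ℂ) ≠ (fun _ => 1) → one ≠ χ :=
    fun χ h e => h (e ▸ rfl)
  set χ : Fin 4 → IrrCharacter G := ![one, ζ₂, ζ₃, ζ₄] with hχ
  set s : Fin 4 → ℤ := ![1, 1, ε, -1] with hs
  have hd : ∀ ξ : IrrCharacter G, (ξ : G → ℂ) 1 = ((charDegree (ξ : G → ℂ) : ℕ) : ℤ) := by
    intro ξ
    obtain ⟨n, -, hn⟩ := IsIrr.exists_degree ξ.2
    rw [charDegree, hn]
    simp
  have hinj : Function.Injective χ := by
    intro a b hab
    obtain rfl | rfl | rfl | rfl : a = 0 ∨ a = 1 ∨ a = 2 ∨ a = 3 := by omega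
    all_goals obtain rfl | rfl | rfl | rfl : b = 0 ∨ b = 1 ∨ b = 2 ∨ b = 3 := by omega
    all_goals simp [hχ, hne _ h2, hne _ h3, hne _ h4, (hne _ h2).symm, (hne _ h3).symm,
      (hne _ h4).symm, h23, h24, h34, h23.symm, h24.symm, h34.symm] at hab ⊢
  have hrange : principalBlock M G = Set.range χ := by
    rw [hB]
    ext ξ
    simp only [Set.mem_ofPred_eq, Set.mem_range, Fin.exists_fin_succ, IsEmpty.exists_iff, hχ]
    simp only [Matrix.cons_val_zero, Matrix.cons_val_succ, or_false]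
    have e : (ξ : G → ℂ) = (fun _ => 1) ↔ one = ξ :=
      ⟨fun h => Subtype.ext h.symm, fun h => h ▸ rfl⟩
    rw [e, eq_comm (a := ξ) (b := ζ₂), eq_comm (a := ξ) (b := ζ₃), eq_comm (a := ξ) (b := ζ₄)]
  have hs1 : ∀ j, s j = 1 ∨ s j = -1 := by
    intro j
    obtain rfl | rfl | rfl | rfl : j = 0 ∨ j = 1 ∨ j = 2 ∨ j = 3 := by omega
    all_goals simp [hs, hε]
  have hone1 : charDegree (one : G → ℂ) = 1 := by
    show ⌊((1 : ℂ)).re⌋₊ = 1
    simp
  obtain ⟨j, k, hj, hk, hjk, hsjk, hfjk⟩ := halves hM hz χ hinj rfl hrange s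
    (fun j => (charDegree (χ j : G → ℂ) : ℤ)) hs1
    (fun j => by
      obtain rfl | rfl | rfl | rfl : j = 0 ∨ j = 1 ∨ j = 2 ∨ j = 3 := by omega
      · simp [hs, hχ, hone, BlockBasic.trivialIrr]
      all_goals simp [hs, hχ, hval])
    (fun j => by exact_mod_cast hd (χ j))
    (fun j => by
      obtain rfl | rfl | rfl | rfl : j = 0 ∨ j = 1 ∨ j = 2 ∨ j = 3 := by omega
      all_goals simp [hs, hχ, hone1, hd2, hd3, hd4])
    i hi Δ hodd hTI hψ he St ξ ξ' hSt1 hξ1 hξ'1 hStξ hStξ' hξξ' hStodd hdeg heven hSt hξΔ σ hσψ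
    hσξ hσξ' ht
    (fun j y => by
      obtain rfl | rfl | rfl | rfl : j = 0 ∨ j = 1 ∨ j = 2 ∨ j = 3 := by omega
      · simp [hs, hχ, hone, BlockBasic.trivialIrr]
      all_goals simp [hs, hχ, hty])
  obtain rfl | rfl | rfl : j = 1 ∨ j = 2 ∨ j = 3 := by omega
  all_goals obtain rfl | rfl | rfl : k = 1 ∨ k = 2 ∨ k = 3 := by omega
  all_goals simp [hs, hχ] at hjk hsjk hfjk ⊢
  all_goals omega

end Cfsg.Agent.H99.GW
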