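import Cfsg.Agent.H99.GW.Halves
import Cfsg.Agent.H53.SLApp
import Cfsg.Agent.Linear.SLDegrees
import Cfsg.Agent.Cores.KleinBlock
import Cfsg.Agent.Cores.ThirdMain
import Mathlib.NumberTheory.LegendreSymbol.QuadraticChar.GaussSum

/-!
# The characters of `PSL₂(q)`, `q ≡ 3, 5 (mod 8)`, needed by the halves lemma
-/

set_option autoImplicit false
set_option linter.unusedSectionVars false

open scoped ComplexConjugate
open Cfsg Cfsg.Agent Cfsg.Agent.CharBasic

namespace Cfsg.Agent.H99.GW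

variable {F : Type*} [Field F] [Fintype F] [DecidableEq F]

local notation "M2" => Matrix (Fin 2) (Fin 2) F
local notation "S2" => Matrix.SpecialLinearGroup (Fin 2) F
local notation "P2" => Matrix.ProjectiveSpecialLinearGroup (Fin 2) F

/-- The odd one of `(q + 1) / 2` and `(q - 1) / 2`. -/
def oddTorus (F : Type*) [Fintype F] : ℕ :=
  if Fintype.card F % 4 = 1 then (Fintype.card F + 1) / 2 else (Fintype.card F - 1) / 2

/-- The classes of odd order away from the torus of the centraliser of an involution. -/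
def oddClasses (F : Type*) [Field F] [Fintype F] [DecidableEq F] (p : ℕ) :
    Set (Matrix.ProjectiveSpecialLinearGroup (Fin 2) F) :=
  {l | l ^ p = 1 ∨ l ^ oddTorus F = 1}

theorem odd_oddTorus (hq : Fintype.card F % 8 = 3 ∨ Fintype.card F % 8 = 5) :
    Odd (oddTorus F) := by
  rw [oddTorus, Nat.odd_iff]
  split_ifs <;> omega

theorem two_ne_zero_of_mod (hq : Fintype.card F % 8 = 3 ∨ Fintype.card F % 8 = 5) :
    (2 : F) ≠ 0 := by
  intro h
  have : CharP F 2 := CharTwo.of_one_ne_zero_of_two_eq_zero one_ne_zero h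
  obtain ⟨n, -, hn⟩ := FiniteField.card F 2
  have : 2 ∣ Fintype.card F := hn ▸ dvd_pow_self 2 n.ne_zero
  omega

theorem two_not_isSquare (hq : Fintype.card F % 8 = 3 ∨ Fintype.card F % 8 = 5) :
    ¬ IsSquare (2 : F) := by
  rw [FiniteField.isSquare_two_iff]
  omega

/-- An element of order dividing two in `SL₂` is `1` or `-1`. -/
theorem eq_one_or_neg_one_of_sq (h2 : (2 : F) ≠ 0) {g : S2} (h : g * g = 1) : g = 1 ∨ g = -1 := by
  rcases em ((g : M2).trace ^ 2 = 4) with ht | ht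
  · have hs := Linear.SL_sq_eq g
    rw [← Matrix.SpecialLinearGroup.coe_mul, h, Matrix.SpecialLinearGroup.coe_one] at hs
    refine Linear.isScalarTwo_SL_iff.1 ?_
    have h0 : (g : M2).trace ≠ 0 := fun e => by
      rw [e] at ht
      exact mul_ne_zero h2 h2 (by linear_combination -ht)
    refine ⟨?_, ?_, ?_⟩
    · have := congrFun (congrFun hs 0) 1
      simpa [h0] using this
    · have := congrFun (congrFun hs 1) 0
      simpa [h0] using this
    · have e0 := congrFun (congrFun hs 0) 0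
      have e1 := congrFun (congrFun hs 1) 1
      simp at e0 e1
      exact mul_left_cancel₀ h0 (by linear_combination e1 - e0)
  · exact absurd (inv_eq_of_mul_eq_one_left h) (Linear.inv_ne_self ht)

theorem mk_pow_eq_one (h2 : (2 : F) ≠ 0) {g : S2} {m : ℕ} (h : g ^ (2 * m) = 1) :
    (QuotientGroup.mk' (Subgroup.center S2) g) ^ m = 1 := by
  rw [← map_pow, QuotientGroup.mk'_apply, QuotientGroup.eq_one_iff, Linear.mem_center_SL_two]
  exact eq_one_or_neg_one_of_sq h2 (by rw [← pow_add, ← two_mul, h])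

theorem conjS_invariant (h2 : (2 : F) ≠ 0) {χ : S2 → ℂ} (hχ : IsClassFunction S2 χ) {g : S2}
    (ht : (g : M2).trace ^ 2 ≠ 4) (d : Fˣ) : χ (H53.conjS d g) = χ g := by
  have he : ((H53.conjS d g : S2) : M2).trace = (g : M2).trace := by
    simp [H53.coe_conjS, H53.conjMat, Matrix.trace_fin_two]
  obtain ⟨x, hx⟩ := isConj_iff.mp (Linear.isConj_of_trace_eq
    (Linear.not_isScalarTwo_of_trace ht) (Linear.not_isScalarTwo_of_trace (by rw [he]; exact ht))
    he.symm (Or.inr ht))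
  rw [← hx, hχ]

/-- Away from `trace² = 4`: the value of the Steinberg character and the order. -/
theorem torus_cases (h2 : (2 : F) ≠ 0) {g : S2} (ht : (g : M2).trace ^ 2 ≠ 4) :
    (H53.stS g = 1 ∧ g ^ (Fintype.card F - 1) = 1) ∨
      (H53.stS g = -1 ∧ g ^ (Fintype.card F + 1) = 1) := by
  classical
  let C := Subgroup.centralizer ({g} : Set S2)
  have hgC : g ∈ C := Subgroup.mem_centralizer_singleton_iff.2 rfl
  have hpow : g ^ Nat.card C = 1 := by
    have h := pow_card_eq_one' (x := (⟨g, hgC⟩ : C))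
    exact (Subgroup.coe_pow C ⟨g, hgC⟩ _).symm.trans (congrArg Subtype.val h)
  by_cases hr : ∃ c : F, c ^ 2 - c * (g : M2).trace + 1 = 0
  · left
    refine ⟨?_, by rw [← Linear.card_centralizer_split_SL ht hr]; exact hpow⟩
    obtain ⟨r, hr⟩ := hr
    have hr0 : r ≠ 0 := fun e => by simp [e] at hr
    set u : Fˣ := Units.mk0 r hr0
    have htr : ((H53.upS u 0 : S2) : M2).trace = (g : M2).trace := by
      simp only [H53.coe_upS, Matrix.trace_fin_two_of, u, Units.val_inv_eq_inv_val, Units.val_mk0]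
      field_simp
      linear_combination hr
    obtain ⟨x, hx⟩ := isConj_iff.mp (Linear.isConj_of_trace_eq (g := H53.upS u 0) (h := g)
      (Linear.not_isScalarTwo_of_trace (by rw [htr]; exact ht))
      (Linear.not_isScalarTwo_of_trace ht) htr (Or.inr (by rw [htr]; exact ht)))
    rw [← hx, CharBasic.IsIrr.isClassFunction H53.isIrrCharacter_stS]
    refine (H53.stS_values (H53.upS u 0)).1 (by simp [H53.coe_upS]) (by simp [H53.coe_upS]) ?_
    simp only [H53.coe_upS, u, Matrix.of_apply, Matrix.cons_val', Matrix.cons_val_zero,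
      Matrix.cons_val_fin_one, Units.val_mk0]
    intro e
    apply ht
    have : (g : M2).trace = 2 * r := mul_left_cancel₀ hr0 (by linear_combination -hr - e)
    rw [this]
    linear_combination 4 * e
  · right
    push Not at hr
    refine ⟨(H53.stS_values g).2.1 (Linear.noEigen_iff.mpr fun c => ?_),
      by rw [← Linear.card_centralizer_nonsplit_SL ht hr]; exact hpow⟩
    rw [g.2]
    exact hr c

/-- An irreducible character of odd degree of `SL₂` is trivial on the centre. -/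
theorem apply_neg_one_of_odd {χ : S2 → ℂ} (hχ : IsIrrCharacter S2 χ) {d : ℕ} (hd : χ 1 = d)
    (hodd : Odd d) (hxy : ∃ x y : S2, x * y = -1 * (y * x)) : χ (-1) = χ 1 := by
  rcases Linear.SLDegrees.apply_neg_one_cases ⟨χ, hχ⟩ with h | h
  · exact h
  exfalso
  have h' : χ (-1) = -χ 1 := h
  obtain ⟨n, ρ, -, e⟩ := hχ
  have hn : n = d := by
    have : (n : ℂ) = (d : ℂ) := by rw [← hd, ← e]; simp
    exact_mod_cast this
  subst hn
  have hnorm : ‖ρ.character (-1)‖ = (Module.finrank ℂ (Fin n → ℂ) : ℝ) := by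
    rw [e, h', hd, norm_neg, Complex.norm_natCast, Module.finrank_fin_fun]
  obtain ⟨ω, hω⟩ := (norm_character_eq_iff ρ (-1)).1 hnorm
  have hω1 : ω = -1 := by
    have hv : ρ.character (-1) = ω * (n : ℂ) := by
      rw [Representation.character, hω, map_smul, LinearMap.trace_id, smul_eq_mul,
        Module.finrank_fin_fun]
    rw [e, h', hd] at hv
    have hn0 : (n : ℂ) ≠ 0 := Nat.cast_ne_zero.2 (by rintro rfl; exact absurd hodd (by decide))
    exact mul_right_cancel₀ hn0 (by linear_combination -hv)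
  have hdet : LinearMap.det (ρ (-1)) = -1 := by
    rw [hω, hω1, LinearMap.det_smul, LinearMap.det_id, mul_one, Module.finrank_fin_fun,
      hodd.neg_one_pow]
  obtain ⟨x, y, hxy⟩ := hxy
  have hmul := congrArg (fun z => LinearMap.det (ρ z)) hxy
  simp only [map_mul, hdet] at hmul
  have hne : ∀ z : S2, LinearMap.det (ρ z) ≠ 0 := fun z => by
    have : LinearMap.det (ρ z) * LinearMap.det (ρ z⁻¹) = 1 := by
      rw [← map_mul, ← map_mul, mul_inv_cancel, map_one, map_one]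
    exact left_ne_zero_of_mul_eq_one this
  have : LinearMap.det (ρ x) * LinearMap.det (ρ y) = 0 := by linear_combination hmul / 2
  exact mul_ne_zero (hne x) (hne y) this

theorem exists_anticommute (h2 : (2 : F) ≠ 0) : ∃ x y : S2, x * y = -1 * (y * x) := by
  obtain ⟨p, _⟩ := CharP.exists F
  have hp : p.Prime := CharP.char_is_prime F p
  have : Fact p.Prime := ⟨hp⟩
  obtain ⟨a, b, hab⟩ := CharP.sq_add_sq F p (-1)
  have hd : (!![(a : F), (b : F); (b : F), -(a : F)] : M2).det = 1 := by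
    rw [Matrix.det_fin_two_of]
    have : ((a : F) ^ 2 + (b : F) ^ 2) = -1 := by exact_mod_cast hab
    linear_combination -this
  let x : S2 := ⟨!![0, -1; 1, 0], by simp [Matrix.det_fin_two_of]⟩
  let y : S2 := ⟨!![(a : F), (b : F); (b : F), -(a : F)], hd⟩
  have hx : (x : M2) = !![0, -1; 1, 0] := rfl
  have hy : (y : M2) = !![(a : F), (b : F); (b : F), -(a : F)] := rfl
  refine ⟨x, y, ?_⟩
  apply Linear.SL_ext_two <;> simp [Linear.mul_two_apply, hx, hy]

variable [DecidableEq (MulChar F ℂ)]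

/-- The irreducible characters of odd degree: `1`, the Steinberg character and two halves, the
halves being moved by `conjS 2`. -/
theorem exists_halves (hq : Fintype.card F % 8 = 3 ∨ Fintype.card F % 8 = 5) :
    ∃ h : S2 → ℂ, IsIrrCharacter S2 h ∧ h (H53.upS 1 1) ≠ h (H53.upS 1 2) ∧
      (∃ d : ℕ, h 1 = d ∧ Odd d ∧ d < Fintype.card F) ∧ h ≠ (fun _ => 1) ∧ h ≠ H53.stS ∧
      ∀ χ : S2 → ℂ, IsIrrCharacter S2 χ → ∀ d : ℕ, χ 1 = d → Odd d →
        χ = (fun _ => 1) ∨ χ = H53.stS ∨ χ = h ∨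
          χ = fun g => h (H53.conjS
            (Units.mk0 (2 : F) (H53.ne_zero_of_not_isSquare (two_not_isSquare hq))) g) := by
  classical
  have h2 := two_ne_zero_of_mod hq
  have hδ := two_not_isSquare hq
  have hq3 := H53.three_le_of_odd (F := F) (by rw [Nat.odd_iff]; omega)
  rcases hq with hq | hq
  · -- cuspidal halves
    have hcount := (H53.card_cusp_odd (F := F) h2).1
    obtain ⟨a, b, hab, hu⟩ := Nat.card_eq_two_iff.1 hcount
    obtain ⟨⟨h, hirr⟩, hc, hd⟩ := a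
    rcases hc.odd_cases hirr hδ with ⟨-, hsum, hne⟩ | ⟨hd', -, -⟩
    swap
    · exfalso
      have : (Fintype.card F : ℂ) - 1 = 0 := by linear_combination hd - 2 * hd'
      rw [sub_eq_zero, Nat.cast_eq_one] at this
      omega
    dsimp only at hc hd hsum hne
    obtain ⟨d, -, hdeg⟩ := IsIrr.exists_degree hirr
    have hd2 : 2 * d + 1 = Fintype.card F := Nat.cast_injective (R := ℂ) (by
      push_cast; rw [← hdeg]; linear_combination hd)
    set δu := Units.mk0 (2 : F) (H53.ne_zero_of_not_isSquare hδ) with hδu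
    have hconj : H53.IsCuspS (fun g => h (H53.conjS δu g)) := hc.conj δu
    refine ⟨h, hirr, fun e => ?_, ⟨d, hdeg, Nat.odd_iff.2 (by omega), by omega⟩,
      fun e => H53.one_not_cusp (by rw [← e]; exact hc), fun e => H53.stS_not_cusp (by rw [← e]; exact hc), fun χ hχ n hn hodd => ?_⟩
    · rw [← e] at hsum
      obtain ⟨w, -, hw⟩ := H53.exists_int_of_linear (IsChar.isIntegral (IsIrr.isCharacter hirr)
        (H53.upS 1 1)) (e := 1) (m := 2) (by norm_num) (by push_cast; linear_combination hsum)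
      omega
    · obtain ⟨n', hn', hcases⟩ := H53.sl_cases_odd_nat h2 hχ
      obtain rfl : n' = n := Nat.cast_injective (R := ℂ) (hn'.symm.trans hn)
      rcases hcases with ⟨e, -⟩ | ⟨e, -⟩ | ⟨-, e⟩ | ⟨-, e⟩ | ⟨hcχ, e⟩ | ⟨-, e⟩
      · exact Or.inl e
      · exact Or.inr (Or.inl e)
      · rw [Nat.odd_iff] at hodd; omega
      · rw [Nat.odd_iff] at hodd; omega
      · have hval : 2 * χ 1 = (Fintype.card F : ℂ) - 1 := by
          rw [hn', ← e]; push_cast; ring
        have hval' : 2 * h (H53.conjS δu 1) = (Fintype.card F : ℂ) - 1 := by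
          rw [map_one]; exact hd
        have key : ∀ (f : S2 → ℂ) (hf : IsIrrCharacter S2 f) (hfc : H53.IsCuspS f)
            (hfd : 2 * f 1 = (Fintype.card F : ℂ) - 1), f = h ∨ f = (b.1 : S2 → ℂ) := by
          intro f hf hfc hfd
          have hm := Set.eq_univ_iff_forall.1 hu ⟨⟨f, hf⟩, hfc, hfd⟩
          rcases hm with e | e
          · exact Or.inl (congrArg (fun z => (z.1 : S2 → ℂ)) e)
          · exact Or.inr (congrArg (fun z => (z.1 : S2 → ℂ)) (Set.mem_singleton_iff.1 e))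
        have hb : (fun g => h (H53.conjS δu g)) = (b.1 : S2 → ℂ) :=
          (key _ (H53.isIrr_conjS hirr δu) hconj hval').resolve_left hne
        rcases key χ hχ hcχ hval with r | r
        · exact Or.inr (Or.inr (Or.inl r))
        · exact Or.inr (Or.inr (Or.inr (r.trans hb.symm)))
      · rw [Nat.odd_iff] at hodd; omega
  · -- halves of the principal series
    obtain ⟨ε, hε, hε1⟩ := H53.exists_mulChar_sq (F := F) h2
    obtain ⟨h, H⟩ := H53.exists_isHalf ε
    obtain ⟨d, -, hdeg⟩ := IsIrr.exists_degree H.1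
    have hd2 : 2 * d = Fintype.card F + 1 := Nat.cast_injective (R := ℂ) (by
      push_cast; rw [← hdeg]; exact H.two_degree hε hε1 hδ)
    have hsum := H.zsum hε hε1 hδ
    refine ⟨h, H.1, fun e => ?_, ⟨d, hdeg, Nat.odd_iff.2 (by omega), by omega⟩,
      H.ne_one hε1, H.ne_stS hε1, fun χ hχ n hn hodd => ?_⟩
    · rw [← e] at hsum
      obtain ⟨w, -, hw⟩ := H53.exists_int_of_linear (IsChar.isIntegral (IsIrr.isCharacter H.1)
        (H53.upS 1 1)) (e := -1) (m := 2) (by norm_num) (by push_cast; linear_combination hsum)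
      omega
    · obtain ⟨n', hn', hcases⟩ := H53.sl_cases_odd_nat h2 hχ
      obtain rfl : n' = n := Nat.cast_injective (R := ℂ) (hn'.symm.trans hn)
      rcases hcases with ⟨e, -⟩ | ⟨e, -⟩ | ⟨-, e⟩ | ⟨⟨ε', hε', hε1', H'⟩, -⟩ | ⟨-, e⟩ | ⟨-, e⟩
      · exact Or.inl e
      · exact Or.inr (Or.inl e)
      · rw [Nat.odd_iff] at hodd; omega
      · obtain rfl := H53.mulChar_sq_unique hε' hε hε1' hε1
        exact Or.inr (Or.inr (H.cases hε hε1 hδ H'))
      · rw [Nat.odd_iff] at hodd; omega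
      · rw [Nat.odd_iff] at hodd; omega

/-- An odd degree irreducible character of `SL₂` seen on `PSL₂`. -/
theorem exists_proj (h2 : (2 : F) ≠ 0) {χ : S2 → ℂ} (hχ : IsIrrCharacter S2 χ) {d : ℕ}
    (hd : χ 1 = d) (hodd : Odd d) :
    ∃ ψ : IrrCharacter P2, ∀ g : S2, χ g = (ψ : P2 → ℂ) (QuotientGroup.mk' _ g) := by
  obtain ⟨ψ, -, hval, hirr⟩ := CharInduce.IsChar.exists_deflate (IsIrr.isCharacter hχ)
    (Subgroup.center S2) (fun n hn => by
      rcases Linear.mem_center_SL_two.mp hn with rfl | rfl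
      · rfl
      · exact apply_neg_one_of_odd hχ hd hodd (exists_anticommute h2))
  exact ⟨⟨ψ, hirr hχ⟩, hval⟩

/-- The automorphism fixing the `n`-th roots of unity and acting on transvections as squaring. -/
theorem exists_gal (p : ℕ) [hp : Fact p.Prime] [CharP F p] (h2 : (2 : F) ≠ 0) {n : ℕ}
    (hn : ¬ p ∣ n) :
    ∃ σ : ℂ ≃+* ℂ, (∀ z : ℂ, z ^ n = 1 → σ z = z) ∧
      ∀ (χ : S2 → ℂ), IsCharacter S2 χ → ∀ c : F, σ (χ (H53.upS 1 c)) = χ (H53.upS 1 (2 * c)) := by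
  have hn0 : n ≠ 0 := fun e => hn (e ▸ dvd_zero p)
  have hN : Nat.card S2 * n ≠ 0 := mul_ne_zero Nat.card_pos.ne' hn0
  obtain ⟨a, m, hm, hNm⟩ := Nat.exists_eq_pow_mul_and_not_dvd hN p hp.out.ne_one
  have hco : Nat.Coprime p m := (Nat.Prime.coprime_iff_not_dvd hp.out).2 hm
  obtain ⟨k, hk2, hk1⟩ := Nat.chineseRemainder hco 2 1
  have hp2 : p ≠ 2 := fun e => h2 (by
    have := CharP.cast_eq_zero F p
    rw [e] at this
    exact_mod_cast this)
  have hkp : Nat.Coprime k p := by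
    refine Nat.Coprime.symm ((Nat.Prime.coprime_iff_not_dvd hp.out).2 fun hd => hp2 ?_)
    exact (Nat.prime_dvd_prime_iff_eq hp.out Nat.prime_two).1 ((Nat.ModEq.dvd_iff hk2 dvd_rfl).1 hd)
  have hkm : Nat.Coprime k m := by
    have := hk1.gcd_eq
    simp only [Nat.gcd_one_left] at this
    exact this
  have hk : Nat.Coprime k (Nat.card S2 * n) := hNm ▸ (hkp.pow_right a).mul_right hkm
  obtain ⟨σ, hσ⟩ := H43.exists_aut_pow hN hk
  have hnm : n ∣ m := by
    have h1 : n ∣ p ^ a * m := hNm ▸ dvd_mul_left n _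
    exact Nat.Coprime.dvd_of_dvd_mul_left
      (((Nat.Prime.coprime_iff_not_dvd hp.out).2 hn).symm.pow_right a) h1
  refine ⟨σ, fun z hz => ?_, fun χ hχ c => ?_⟩
  · rw [hσ z (by rw [mul_comm, pow_mul, hz, one_pow]), pow_eq_pow_mod k hz,
      show k % n = 1 % n from hk1.of_dvd hnm, ← pow_eq_pow_mod 1 hz, pow_one]
  · have hval : ∀ j : ℕ, (H53.upS 1 c : S2) ^ j = H53.upS 1 ((j : F) * c) := by
      intro j
      induction j with
      | zero => simp [H53.upS_one]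
      | succ j ih => rw [pow_succ, ih, H53.upS_mul]; push_cast; ring_nf
    rw [H5.RealPrincipal.aut_value_pow σ (fun z hz => hσ z (by rw [pow_mul, hz, one_pow])) hχ,
      hval]
    have : (k : F) = 2 := by exact_mod_cast (CharP.natCast_eq_natCast F p).2 hk2
    rw [this]

/-- The data on `PSL₂(q)` required by `halves`. -/
theorem exists_psl_data (p : ℕ) [hp : Fact p.Prime] [CharP F p]
    (hq : Fintype.card F % 8 = 3 ∨ Fintype.card F % 8 = 5) {n : ℕ} (hn : ¬ p ∣ n) :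
    ∃ e : ℤ, (e = 1 ∨ e = -1) ∧ ∃ St ξ ξ' : IrrCharacter P2,
      St ≠ BlockBasic.trivialIrr ∧ ξ ≠ BlockBasic.trivialIrr ∧ ξ' ≠ BlockBasic.trivialIrr ∧
      St ≠ ξ ∧ St ≠ ξ' ∧ ξ ≠ ξ' ∧ (∃ k : ℕ, (St : P2 → ℂ) 1 = 2 * k + 1) ∧
      (ξ : P2 → ℂ) 1 = (ξ' : P2 → ℂ) 1 ∧
      (∀ θ : IrrCharacter P2, θ ≠ BlockBasic.trivialIrr → θ ≠ St → θ ≠ ξ → θ ≠ ξ' →
        ∃ k : ℕ, (θ : P2 → ℂ) 1 = 2 * k) ∧
      (∀ l ∉ oddClasses F p, (St : P2 → ℂ) l = e) ∧
      (∀ l ∉ oddClasses F p, (ξ : P2 → ℂ) l = (ξ' : P2 → ℂ) l) ∧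
      ∃ σ : ℂ ≃+* ℂ, (∀ z : ℂ, z ^ n = 1 → σ z = z) ∧
        (∀ l, σ ((ξ : P2 → ℂ) l) = (ξ' : P2 → ℂ) l) ∧
        (∀ l, σ ((ξ' : P2 → ℂ) l) = (ξ : P2 → ℂ) l) := by
  classical
  have h2 := two_ne_zero_of_mod hq
  have hδ := two_not_isSquare hq
  set δu := Units.mk0 (2 : F) (H53.ne_zero_of_not_isSquare hδ) with hδu
  obtain ⟨h, hirr, hu, ⟨d, hd, hdodd, hdq⟩, hne1, hnest, hclass⟩ := exists_halves hq
  have hqodd : Odd (Fintype.card F) := by rw [Nat.odd_iff]; omega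
  set h' : S2 → ℂ := fun g => h (H53.conjS δu g) with hh'
  have hirr' : IsIrrCharacter S2 h' := H53.isIrr_conjS hirr δu
  have hd' : h' 1 = d := by simp [hh', hd]
  have hh'u : h' (H53.upS 1 1) = h (H53.upS 1 2) := by
    simp [hh', H53.conjS_upS, hδu]
  have hhne : h' ≠ h := fun e => hu (by rw [← hh'u, e])
  obtain ⟨St, hSt⟩ := exists_proj h2 H53.isIrrCharacter_stS H53.stS_one hqodd
  obtain ⟨ξ, hξ⟩ := exists_proj h2 hirr hd hdodd
  obtain ⟨ξ', hξ'⟩ := exists_proj h2 hirr' hd' hdodd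
  set π := QuotientGroup.mk' (Subgroup.center S2) with hπ
  have hsurj : Function.Surjective π := QuotientGroup.mk'_surjective _
  have hne1' : h' ≠ fun _ => 1 := fun e => hne1 (funext fun g => by
    obtain ⟨z, rfl⟩ := H53.conjS_surjective δu g
    exact congrFun e z)
  have hstd : (Fintype.card F : ℂ) ≠ d := fun e => hdq.ne' (Nat.cast_injective e)
  have hnest' : h' ≠ H53.stS := fun e => hstd (by rw [← H53.stS_one (F := F), ← e, hd'])
  have ext' : ∀ a b : IrrCharacter P2, (∀ g : S2, (a : P2 → ℂ) (π g) = (b : P2 → ℂ) (π g)) → a = b :=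
    fun a b hab => Subtype.ext (funext fun l => by obtain ⟨g, rfl⟩ := hsurj l; exact hab g)
  have hclassP : ∀ θ : IrrCharacter P2, ∀ n : ℕ, (θ : P2 → ℂ) 1 = n → Odd n →
      θ = BlockBasic.trivialIrr ∨ θ = St ∨ θ = ξ ∨ θ = ξ' := by
    intro θ n hn hnodd
    rcases hclass _ (CharInduce.IsIrr.comp θ.2 π hsurj) n
      (by show (θ : P2 → ℂ) (π 1) = n; rw [map_one, hn]) hnodd with e | e | e | e
    · exact Or.inl (ext' _ _ fun g => congrFun e g)
    · exact Or.inr (Or.inl (ext' _ _ fun g => (congrFun e g).trans (hSt g)))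
    · exact Or.inr (Or.inr (Or.inl (ext' _ _ fun g => (congrFun e g).trans (hξ g))))
    · exact Or.inr (Or.inr (Or.inr (ext' _ _ fun g => (congrFun e g).trans (hξ' g))))
  -- away from the odd classes
  have hout : ∀ g : S2, π g ∉ oddClasses F p → (g : M2).trace ^ 2 ≠ 4 ∧
      H53.stS g = ((if Fintype.card F % 4 = 1 then 1 else -1 : ℤ) : ℂ) := by
    intro g hg
    rw [oddClasses, Set.mem_ofPred_eq, not_or] at hg
    have ht : (g : M2).trace ^ 2 ≠ 4 := fun e =>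
      hg.1 (mk_pow_eq_one h2 (Linear.pow_two_mul_char_eq_one p e))
    refine ⟨ht, ?_⟩
    rcases torus_cases h2 ht with ⟨hv, ho⟩ | ⟨hv, ho⟩
    · rw [hv]
      split_ifs with h4
      · simp
      · exact absurd (mk_pow_eq_one h2 (m := oddTorus F) (by
          rwa [oddTorus, if_neg h4, Nat.mul_div_cancel' (by omega)])) hg.2
    · rw [hv]
      split_ifs with h4
      · exact absurd (mk_pow_eq_one h2 (m := oddTorus F) (by
          rwa [oddTorus, if_pos h4, Nat.mul_div_cancel' (by omega)])) hg.2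
      · simp
  obtain ⟨σ, hσn, hσu⟩ := exists_gal (F := F) p h2 hn
  have hswap : ∀ f f' : S2 → ℂ, IsIrrCharacter S2 f → f 1 = d →
      f (H53.upS 1 1) ≠ f (H53.upS 1 2) → (f = h ∧ f' = h' ∨ f = h' ∧ f' = h) →
      ∀ g, σ (f g) = f' g := by
    intro f f' hf hf1 hfu hff'
    have hirrσ : IsIrrCharacter S2 (fun g => σ (f g)) := H43.aut_irr σ hf
    have hσ1 : (fun g => σ (f g)) 1 = (d : ℂ) := by simp [hf1]
    have hneσ : (fun g => σ (f g)) ≠ f := fun e => hfu (by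
      have := congrFun e (H53.upS 1 1)
      simp only [hσu f (IsIrr.isCharacter hf), mul_one] at this
      exact this.symm)
    have hne1σ : (fun g => σ (f g)) ≠ fun _ => 1 := fun e => hfu (by
      have e' : ∀ g, f g = 1 := fun g => σ.injective (by rw [map_one]; exact congrFun e g)
      rw [e', e'])
    have hnestσ : (fun g => σ (f g)) ≠ H53.stS := fun e => hstd (by
      rw [← H53.stS_one (F := F), ← e]
      exact hσ1)
    rcases hclass _ hirrσ d hσ1 hdodd with e | e | e | e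
    · exact absurd e hne1σ
    · exact absurd e hnestσ
    · rcases hff' with ⟨r1, r2⟩ | ⟨r1, r2⟩
      · exact absurd (r1 ▸ e) hneσ
      · intro g; rw [r2]; exact congrFun e g
    · rcases hff' with ⟨r1, r2⟩ | ⟨r1, r2⟩
      · intro g; rw [r2]; exact congrFun e g
      · exact absurd (r1 ▸ e) hneσ
  have hu' : h' (H53.upS 1 1) ≠ h' (H53.upS 1 2) := by
    have e4 : h' (H53.upS 1 2) = h (H53.upS 1 1) := by
      rw [hh']
      simp only [H53.conjS_upS, hδu, Units.val_mk0]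
      exact H53.apply_upS_of_isSquare (IsIrr.isClassFunction hirr) (mul_ne_zero h2 h2) ⟨2, rfl⟩
    rw [e4, hh'u]
    exact hu.symm
  refine ⟨if Fintype.card F % 4 = 1 then 1 else -1, by split_ifs <;> simp, St, ξ, ξ',
    ?_, ?_, ?_, ?_, ?_, ?_, ?_, ?_, ?_, ?_, ?_, σ, hσn, ?_, ?_⟩
  · exact fun e => H53.stS_ne_one (funext fun g => by rw [hSt, e]; rfl)
  · exact fun e => hne1 (funext fun g => by rw [hξ, e]; rfl)
  · exact fun e => hne1' (funext fun g => by rw [hξ', e]; rfl)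
  · exact fun e => hnest (funext fun g => by rw [hξ, ← e, hSt])
  · exact fun e => hnest' (funext fun g => by rw [hξ', ← e, hSt])
  · exact fun e => hhne (funext fun g => by rw [hξ', hξ, e])
  · obtain ⟨k, hk⟩ := hqodd
    refine ⟨k, ?_⟩
    have := (hSt 1).symm.trans H53.stS_one
    rw [map_one] at this
    rw [this, hk]
    push_cast
    ring
  · have e1 := (hξ 1).symm.trans hd
    have e2 := (hξ' 1).symm.trans hd'
    rw [map_one] at e1 e2
    rw [e1, e2]
  · intro θ n1 n2 n3 n4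
    obtain ⟨m, -, hm⟩ := IsIrr.exists_degree θ.2
    rcases Nat.even_or_odd m with ⟨k, hk⟩ | hodd
    · exact ⟨k, by rw [hm, hk]; push_cast; ring⟩
    · rcases hclassP θ m hm hodd with e | e | e | e
      exacts [absurd e n1, absurd e n2, absurd e n3, absurd e n4]
  · intro l hl
    obtain ⟨g, rfl⟩ := hsurj l
    rw [← hSt, (hout g hl).2]
  · intro l hl
    obtain ⟨g, rfl⟩ := hsurj l
    rw [← hξ, ← hξ']
    exact (conjS_invariant h2 (IsIrr.isClassFunction hirr) (hout g hl).1 δu).symm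
  · intro l
    obtain ⟨g, rfl⟩ := hsurj l
    rw [← hξ, ← hξ']
    exact hswap h h' hirr hd hu (Or.inl ⟨rfl, rfl⟩) g
  · intro l
    obtain ⟨g, rfl⟩ := hsurj l
    rw [← hξ, ← hξ']
    exact hswap h' h hirr' hd' hu' (Or.inr ⟨rfl, rfl⟩) g

theorem not_two_dvd_orderOf (p : ℕ) [hp : Fact p.Prime] [CharP F p]
    (hq : Fintype.card F % 8 = 3 ∨ Fintype.card F % 8 = 5) {l : P2} (hl : l ∈ oddClasses F p) :
    ¬ 2 ∣ orderOf l := by
  rcases hl with h | h
  · intro h'
    have hd := h'.trans (orderOf_dvd_of_pow_eq_one h)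
    have e := (Nat.prime_dvd_prime_iff_eq Nat.prime_two hp.out).1 hd
    exact two_ne_zero_of_mod hq (by
      have := CharP.cast_eq_zero F p
      rw [← e] at this
      exact_mod_cast this)
  · intro h'
    exact (Nat.two_dvd_ne_zero.2 (Nat.odd_iff.1 (odd_oddTorus hq)))
      (h'.trans (orderOf_dvd_of_pow_eq_one h))

/-- **Halves lemma over `PSL₂(q)`.** -/
theorem halves_psl {G : Type*} [Group G] [Fintype G] {M : Ideal AlgInt} (hM : IsPModular 2 M)
    (ζ₂ ζ₃ ζ₄ : IrrCharacter G) {ε : ℤ} (hε : ε = 1 ∨ ε = -1)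
    (h2 : (ζ₂ : G → ℂ) ≠ fun _ => 1) (h3 : (ζ₃ : G → ℂ) ≠ fun _ => 1)
    (h4 : (ζ₄ : G → ℂ) ≠ fun _ => 1) (h23 : ζ₂ ≠ ζ₃) (h24 : ζ₂ ≠ ζ₄) (h34 : ζ₃ ≠ ζ₄)
    (hB : principalBlock M G = {χ : IrrCharacter G |
      (χ : G → ℂ) = (fun _ => 1) ∨ χ = ζ₂ ∨ χ = ζ₃ ∨ χ = ζ₄})
    {z : G} (hz : 2 ∣ orderOf z)
    (hval : (ζ₂ : G → ℂ) z = 1 ∧ (ζ₃ : G → ℂ) z = (ε : ℂ) ∧ (ζ₄ : G → ℂ) z = -1)
    (hd2 : (4 : ℤ) ∣ (charDegree (ζ₂ : G → ℂ) : ℤ) - 1)
    (hd3 : (4 : ℤ) ∣ (charDegree (ζ₃ : G → ℂ) : ℤ) - ε)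
    (hd4 : (4 : ℤ) ∣ (charDegree (ζ₄ : G → ℂ) : ℤ) + 1)
    (p : ℕ) [Fact p.Prime] [CharP F p] (hq : Fintype.card F % 8 = 3 ∨ Fintype.card F % 8 = 5)
    {E : Type*} [Group E] [Fintype E] (hEodd : ∀ y : E, ¬ 2 ∣ orderOf y)
    (i : E × P2 →* G) (hi : Function.Injective i)
    (hTI : ∀ a b : E × P2, a.1 ≠ 1 → a.2 ∈ oddClasses F p → b.1 ≠ 1 → b.2 ∈ oddClasses F p →
      ∀ x : G, x⁻¹ * i a * x = i b → x ∈ i.range)
    {ψ : E →* ℂˣ} (hψ : ψ ≠ 1) {n : ℕ} (hn : ¬ p ∣ n) (hψn : ∀ y, (ψ y : ℂ) ^ n = 1)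
    {t : P2} (ht : orderOf t = 2)
    (hty : ∀ y : E, (ζ₂ : G → ℂ) (i (y, t)) = 1 ∧ (ζ₃ : G → ℂ) (i (y, t)) = (ε : ℂ) ∧
      (ζ₄ : G → ℂ) (i (y, t)) = -1) :
    (ε = 1 → charDegree (ζ₂ : G → ℂ) = charDegree (ζ₃ : G → ℂ)) ∧
      (ε = -1 → charDegree (ζ₃ : G → ℂ) = charDegree (ζ₄ : G → ℂ)) := by
  obtain ⟨e, he, St, ξ, ξ', a1, a2, a3, a4, a5, a6, a7, a8, a9, a10, a11, σ, hσn, hσ1, hσ2⟩ :=
    exists_psl_data (F := F) p hq hn
  exact halves_klein hM ζ₂ ζ₃ ζ₄ hε h2 h3 h4 h23 h24 h34 hB hz hval hd2 hd3 hd4 i hi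
    (oddClasses F p)
    (fun a _ ha => by
      rw [Prod.orderOf, Nat.prime_two.dvd_lcm, not_or]
      exact ⟨hEodd a.1, not_two_dvd_orderOf p hq ha⟩)
    hTI hψ he St ξ ξ' a1 a2 a3 a4 a5 a6 a7 a8 a9 a10 a11 σ (fun y => hσn _ (hψn y)) hσ1 hσ2 ht hty

section KleinSection

variable {G : Type*} [Group G] [Finite G]

/-- With a four group as Sylow `2`-subgroup the principal block is constant on `z` times the
odd order elements centralising the involution `z`. -/
theorem apply_involution_mul_odd {M : Ideal AlgInt} (hM : IsPModular 2 M) (P : Sylow 2 G)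
    (hP : IsKleinFour (P : Subgroup G)) {χ : IrrCharacter G} (hχ : χ ∈ principalBlock M G)
    {z y : G} (hz : orderOf z = 2) (hy : ¬ 2 ∣ orderOf y) (hzy : Commute z y) :
    (χ : G → ℂ) (z * y) = (χ : G → ℂ) z := by
  have : Fact (Nat.Prime 2) := ⟨Nat.prime_two⟩
  obtain ⟨Q, hQ⟩ := (IsPGroup.of_card (p := 2) (n := 1) (G := Subgroup.zpowers z)
    (by rw [Nat.card_zpowers, hz, pow_one])).exists_le_sylow
  have hQK : IsKleinFour (Q : Subgroup G) := by
    have e := (Sylow.equiv Q P)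
    exact ⟨by rw [Nat.card_congr e.toEquiv]; exact hP.card_four,
      by rw [Monoid.exponent_eq_of_mulEquiv e]; exact hP.exponent_two⟩
  obtain ⟨S, N, hN, hNS⟩ := Cores.hasNormalPComplement_centralizer_involution Q hQK hz
    (hQ (Subgroup.mem_zpowers z))
  have hNodd : ¬ 2 ∣ Nat.card N := by
    rw [← hNS.index_eq_card]
    exact S.not_dvd_index
  have hyC : y ∈ Subgroup.centralizer ({z} : Set G) :=
    Subgroup.mem_centralizer_singleton_iff.2 hzy.eq.symm
  refine Cores.principalBlock_apply_mul hM (e := 1) (by rw [hz, pow_one]) hχ N hNodd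
    (y := ⟨y, hyC⟩) ?_
  have hidx : Nat.card (Subgroup.centralizer ({z} : Set G) ⧸ N) = Nat.card (S : Subgroup (Subgroup.centralizer ({z} : Set G))) := by
    rw [← Subgroup.index_eq_card]
    exact hNS.symm.index_eq_card
  obtain ⟨k, hk⟩ := IsPGroup.iff_card.1 S.isPGroup'
  rw [← QuotientGroup.eq_one_iff (N := N), ← orderOf_eq_one_iff]
  set w := (QuotientGroup.mk ⟨y, hyC⟩ : Subgroup.centralizer ({z} : Set G) ⧸ N)
  have h1 : orderOf w ∣ 2 ^ k := hk ▸ hidx ▸ orderOf_dvd_natCard w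
  have h2 : orderOf w ∣ orderOf y := by
    have := orderOf_map_dvd (QuotientGroup.mk' N) (⟨y, hyC⟩ : Subgroup.centralizer ({z} : Set G))
    rwa [Subgroup.orderOf_mk] at this
  exact Nat.eq_one_of_dvd_coprimes
    (((Nat.Prime.coprime_iff_not_dvd Nat.prime_two).2 hy).pow_left k) h1 h2

end KleinSection

/-- **Halves lemma over `PSL₂(q)`**, with the values on `z × E` filled in. -/
theorem halves_psl_klein {G : Type*} [Group G] [Fintype G] {M : Ideal AlgInt}
    (hM : IsPModular 2 M) (P : Sylow 2 G) (hP : IsKleinFour (P : Subgroup G))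
    (ζ₂ ζ₃ ζ₄ : IrrCharacter G) {ε : ℤ} (hε : ε = 1 ∨ ε = -1)
    (h2 : (ζ₂ : G → ℂ) ≠ fun _ => 1) (h3 : (ζ₃ : G → ℂ) ≠ fun _ => 1)
    (h4 : (ζ₄ : G → ℂ) ≠ fun _ => 1) (h23 : ζ₂ ≠ ζ₃) (h24 : ζ₂ ≠ ζ₄) (h34 : ζ₃ ≠ ζ₄)
    (hB : principalBlock M G = {χ : IrrCharacter G |
      (χ : G → ℂ) = (fun _ => 1) ∨ χ = ζ₂ ∨ χ = ζ₃ ∨ χ = ζ₄})
    (hval : ∀ z : G, orderOf z = 2 →
      (ζ₂ : G → ℂ) z = 1 ∧ (ζ₃ : G → ℂ) z = (ε : ℂ) ∧ (ζ₄ : G → ℂ) z = -1)
    (hd2 : (4 : ℤ) ∣ (charDegree (ζ₂ : G → ℂ) : ℤ) - 1)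
    (hd3 : (4 : ℤ) ∣ (charDegree (ζ₃ : G → ℂ) : ℤ) - ε)
    (hd4 : (4 : ℤ) ∣ (charDegree (ζ₄ : G → ℂ) : ℤ) + 1)
    (p : ℕ) [Fact p.Prime] [CharP F p] (hq : Fintype.card F % 8 = 3 ∨ Fintype.card F % 8 = 5)
    {E : Type*} [Group E] [Fintype E] (hEodd : ∀ y : E, ¬ 2 ∣ orderOf y)
    (i : E × P2 →* G) (hi : Function.Injective i)
    (hTI : ∀ a b : E × P2, a.1 ≠ 1 → a.2 ∈ oddClasses F p → b.1 ≠ 1 → b.2 ∈ oddClasses F p →
      ∀ x : G, x⁻¹ * i a * x = i b → x ∈ i.range)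
    {ψ : E →* ℂˣ} (hψ : ψ ≠ 1) {n : ℕ} (hn : ¬ p ∣ n) (hψn : ∀ y, (ψ y : ℂ) ^ n = 1) :
    (ε = 1 → charDegree (ζ₂ : G → ℂ) = charDegree (ζ₃ : G → ℂ)) ∧
      (ε = -1 → charDegree (ζ₃ : G → ℂ) = charDegree (ζ₄ : G → ℂ)) := by
  have h20 : (2 : F) ≠ 0 := two_ne_zero_of_mod hq
  -- an involution of `PSL₂`
  have : Fact (Nat.Prime 2) := ⟨Nat.prime_two⟩
  obtain ⟨t, ht⟩ : ∃ t : P2, orderOf t = 2 := by
    let x : S2 := ⟨!![0, -1; 1, 0], by simp [Matrix.det_fin_two_of]⟩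
    have hx : (x : M2) = !![0, -1; 1, 0] := rfl
    refine ⟨QuotientGroup.mk' (Subgroup.center S2) x, orderOf_eq_prime ?_ ?_⟩
    · refine mk_pow_eq_one h20 ?_
      have e : x * x = -1 := by
        apply Linear.SL_ext_two <;> simp [Linear.mul_two_apply, hx]
      rw [show (2 * 2 : ℕ) = 2 + 2 from rfl, pow_add, sq, e, neg_one_mul, neg_neg]
    · rw [QuotientGroup.mk'_apply, Ne, QuotientGroup.eq_one_iff, Linear.mem_center_SL_two]
      rintro (e | e) <;>
        simpa [hx] using congrArg (fun g : S2 => (g : M2) 1 0) e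
  have hzt : orderOf (i (1, t)) = 2 := by
    rw [orderOf_injective i hi, Prod.orderOf]
    simp [ht]
  refine halves_psl hM ζ₂ ζ₃ ζ₄ hε h2 h3 h4 h23 h24 h34 hB (z := i (1, t)) (by rw [hzt])
    (hval _ hzt) hd2 hd3 hd4 p hq hEodd i hi hTI hψ hn hψn ht fun y => ?_
  have hy : ¬ 2 ∣ orderOf (i (y, 1)) := by
    rw [orderOf_injective i hi, Prod.orderOf]
    simpa using hEodd y
  have hsplit : i (y, t) = i (1, t) * i (y, 1) := by rw [← map_mul]; simp
  have hcomm : Commute (i (1, t)) (i (y, 1)) := by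
    refine Commute.map ?_ i
    exact Prod.ext (by simp) (by simp)
  have hmem : ∀ χ ∈ ({ζ₂, ζ₃, ζ₄} : Set (IrrCharacter G)), χ ∈ principalBlock M G := by
    intro χ hχ
    rw [hB]
    rcases hχ with rfl | rfl | rfl
    exacts [Or.inr (Or.inl rfl), Or.inr (Or.inr (Or.inl rfl)), Or.inr (Or.inr (Or.inr rfl))]
  rw [hsplit, apply_involution_mul_odd hM P hP (hmem ζ₂ (by simp)) hzt hy hcomm,
    apply_involution_mul_odd hM P hP (hmem ζ₃ (by simp)) hzt hy hcomm,
    apply_involution_mul_odd hM P hP (hmem ζ₄ (by simp)) hzt hy hcomm]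
  exact hval _ hzt

end Cfsg.Agent.H99.GW
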