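import Cfsg.Agent.H99.GW.OrbitColumns
import Cfsg.Agent.H99.GW.KleinLinear

/-!
# An orbit of three linear characters makes `O(C(t))` abelian

The case of a four group Sylow `2`-subgroup in the second step of `MaxStep`.
-/

open scoped ComplexConjugate

set_option autoImplicit false
set_option linter.style.haveILetI false

namespace Cfsg.Agent.H99.GW

open BlockBasic CharBasic Cores Cfsg.Agent.GW

universe u

/-- Integer columns with sum of squares four orthogonal to positive degrees have entries at most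
one in absolute value, and exactly four of them. -/
theorem column_signs {ι : Type*} [Fintype ι] [DecidableEq ι] {v : ι → ℤ} {f : ι → ℕ}
    (hf : ∀ i, 0 < f i) (hsq : ∑ i, v i * v i = 4) (h0 : ∑ i, v i * (f i : ℤ) = 0) :
    (∀ i, v i = 0 ∨ v i = 1 ∨ v i = -1) ∧
      (Finset.univ.filter fun i => v i ≠ 0).card = 4 := by
  have hv : ∀ i, v i = 0 ∨ v i = 1 ∨ v i = -1 := by
    intro i
    by_contra hcon
    push Not at hcon
    have h4 : 4 ≤ v i * v i := by
      rcases (show v i ≤ -2 ∨ 2 ≤ v i by omega) with h | h <;> nlinarith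
    have hz : ∑ j ∈ Finset.univ.erase i, v j * v j = 0 := by
      have h := Finset.add_sum_erase Finset.univ (fun j => v j * v j) (Finset.mem_univ i)
      rw [hsq] at h
      have : 0 ≤ ∑ j ∈ Finset.univ.erase i, v j * v j :=
        Finset.sum_nonneg fun j _ => mul_self_nonneg _
      omega
    have hz' := (Finset.sum_eq_zero_iff_of_nonneg fun j _ => mul_self_nonneg (v j)).1 hz
    rw [← Finset.add_sum_erase Finset.univ _ (Finset.mem_univ i),
      Finset.sum_eq_zero fun j hj => by rw [mul_self_eq_zero.1 (hz' j hj), zero_mul], add_zero,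
      mul_eq_zero, Nat.cast_eq_zero] at h0
    exact h0.elim hcon.1 (hf i).ne'
  refine ⟨hv, ?_⟩
  have h1 : ∑ i ∈ Finset.univ.filter (fun i => v i ≠ 0), v i * v i = 4 := by
    rw [Finset.sum_filter, ← hsq]
    refine Finset.sum_congr rfl fun i _ => ?_
    by_cases h : v i = 0
    · simp [h]
    · simp [h]
  rw [Finset.sum_congr rfl (g := fun _ => (1 : ℤ)) fun i hi => by
    rcases hv i with h | h | h
    · exact absurd h (Finset.mem_filter.1 hi).2
    all_goals simp [h], Finset.sum_const, nsmul_eq_mul, mul_one] at h1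
  exact_mod_cast h1

variable {G : Type u} [Group G] [Finite G] {S : Sylow 2 G} {c s θ : G} {lam : Fin 3 → G → ℂ}

/-- The three characters make `O(C(c))` abelian. -/
theorem Orbit3.abelian (h : Orbit3 S c s θ lam) :
    ∀ x ∈ coreAt c, ∀ y ∈ coreAt c, Commute x y := by
  classical
  cases nonempty_fintype G
  haveI : Fact (Nat.Prime 2) := ⟨Nat.prime_two⟩
  obtain ⟨M, hM⟩ := exists_isPModular (p := 2) Nat.prime_two
  obtain ⟨A, hpar, hval, horth, hdeg, htriv, hpair⟩ := h.columns hM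
  obtain ⟨χ₃, x, y, z, ε, hε, hne3, hy, hv3, hx4, hy4, hz4, hx2, hy2, hz2, hrel, -, hbeta⟩ :=
    principal_klein hM h.gen h.simple h.nonab h.oneClass
  set f : IrrCharacter G → ℕ := fun χ => charDegree (χ : G → ℂ) with hfdef
  have hcol : ∀ k, (∀ χ, A χ k = 0 ∨ A χ k = 1 ∨ A χ k = -1) ∧
      (Finset.univ.filter fun χ => A χ k ≠ 0).card = 4 := fun k =>
    column_signs (v := fun χ => A χ k) (f := f) (fun χ => charDegree_pos χ)
      (by simpa using horth k k) (hdeg k)
  set F := Finset.univ.filter fun χ : IrrCharacter G => A χ 0 ≠ 0 with hF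
  have hzero : ∀ χ, χ ∉ F → ∀ k, A χ k = 0 := by
    intro χ hχ
    have h0 : A χ 0 = 0 := by simpa [hF] using hχ
    have h1 := hpar χ 0
    rw [zero_add, h0] at h1
    have h2 := hpar χ 1
    have e1 : A χ 1 = 0 := by rcases (hcol 1).1 χ with h | h | h <;> omega
    rw [show (1 : Fin 3) + 1 = 2 from rfl, e1] at h2
    have e2 : A χ 2 = 0 := by rcases (hcol 2).1 χ with h | h | h <;> omega
    intro k
    fin_cases k
    exacts [h0, e1, e2]
  have hsign : ∀ χ ∈ F, ∀ k, A χ k = 1 ∨ A χ k = -1 := by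
    intro χ hχ
    have h0 : A χ 0 = 1 ∨ A χ 0 = -1 :=
      ((hcol 0).1 χ).resolve_left (Finset.mem_filter.1 hχ).2
    have h1 := hpar χ 0
    rw [zero_add] at h1
    have h2 := hpar χ 1
    rw [show (1 : Fin 3) + 1 = 2 from rfl] at h2
    have e1 : A χ 1 = 1 ∨ A χ 1 = -1 := by rcases (hcol 1).1 χ with h | h | h <;> omega
    have e2 : A χ 2 = 1 ∨ A χ 2 = -1 := by rcases (hcol 2).1 χ with h | h | h <;> omega
    intro k
    fin_cases k
    exacts [h0, e1, e2]
  let e : Fin 4 ≃ F := (Finset.equivFinOfCardEq (hcol 0).2).symm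
  have hre : ∀ {β : Type} [AddCommMonoid β] (w : IrrCharacter G → β),
      (∀ χ, (∀ k, A χ k = 0) → w χ = 0) → ∑ χ, w χ = ∑ i, w (e i : IrrCharacter G) := by
    intro β _ w hw
    rw [← Finset.sum_subset (Finset.subset_univ F) (fun χ _ hχ => hw χ (hzero χ hχ)),
      ← Finset.sum_coe_sort F w]
    exact (Equiv.sum_comp e fun χ : F => w χ).symm
  set v : Fin 3 → Fin 4 → ℤ := fun k i => A (e i : IrrCharacter G) k with hv
  have hvs : ∀ k i, v k i = 1 ∨ v k i = -1 := fun k i => hsign _ (e i).2 k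
  have hvv : ∀ k i, v k i * v k i = 1 := fun k i => by
    rcases hvs k i with h | h <;> simp [h]
  have hvo : ∀ j k, ∑ i, v j i * v k i = if j = k then 4 else 0 := fun j k => by
    rw [← horth j k]
    exact (hre (fun χ => A χ j * A χ k) fun χ hχ => by simp [hχ]).symm
  set d : Fin 4 → ℕ := fun i => f (e i : IrrCharacter G) with hd
  have hvd : ∀ k, ∑ i, v k i * (d i : ℤ) = 0 := fun k => by
    rw [← hdeg k]
    exact (hre (fun χ : IrrCharacter G => A χ k * (charDegree (χ : G → ℂ) : ℤ))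
      fun χ hχ => by simp [hχ]).symm
  set δ : Fin 4 → ℤ := fun i => v 0 i * v 1 i * v 2 i with hδ
  have hrows := sign_rows (e := fun i => v 0 i * v 1 i) (g := fun i => v 0 i * v 2 i)
    (F := fun i => v 0 i * (d i : ℤ))
    (fun i => by rcases hvs 0 i with h | h <;> rcases hvs 1 i with h' | h' <;> simp [h, h'])
    (fun i => by rcases hvs 0 i with h | h <;> rcases hvs 2 i with h' | h' <;> simp [h, h'])
    (by simpa using hvo 0 1) (by simpa using hvo 0 2)
    (by
      refine Eq.trans (Finset.sum_congr rfl fun i _ => ?_) (by simpa using hvo 1 2)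
      linear_combination (v 1 i * v 2 i) * hvv 0 i)
    (hvd 0)
    (by
      refine Eq.trans (Finset.sum_congr rfl fun i _ => ?_) (hvd 1)
      linear_combination (v 1 i * (d i : ℤ)) * hvv 0 i)
    (by
      refine Eq.trans (Finset.sum_congr rfl fun i _ => ?_) (hvd 2)
      linear_combination (v 2 i * (d i : ℤ)) * hvv 0 i)
  have hδd : ∀ i, δ i = δ 0 ∧ d i = d 0 := by
    intro i
    have h1 : δ i * (d i : ℤ) = δ 0 * (d 0 : ℤ) := by
      have := hrows i
      simp only [hδ]
      linear_combination this - (v 0 i * v 1 i * v 2 i * (d i : ℤ)) * hvv 0 i +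
        (v 0 0 * v 1 0 * v 2 0 * (d 0 : ℤ)) * hvv 0 0
    have hs : ∀ j, δ j = 1 ∨ δ j = -1 := fun j => by
      rcases hvs 0 j with h | h <;> rcases hvs 1 j with h' | h' <;>
        rcases hvs 2 j with h'' | h'' <;> simp [hδ, h, h', h'']
    have hdi : 0 < d i := charDegree_pos _
    have hd0 : 0 < d 0 := charDegree_pos _
    rcases hs i with a | a <;> rcases hs 0 with b | b <;> rw [a, b] at h1 <;>
      exact ⟨a.trans (by omega), by omega⟩
  have hdd : ∀ i, d i = d 0 := fun i => (hδd i).2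
  have hd0q : (0 : ℚ) < d 0 := by exact_mod_cast (show 0 < d 0 from charDegree_pos _)
  have hsum0 : ∀ k, ∑ i, v k i = 0 := by
    intro k
    have h1 := hvd k
    rw [Finset.sum_congr rfl (g := fun i => v k i * (d 0 : ℤ)) fun i _ => by rw [hdd i],
      ← Finset.sum_mul, mul_eq_zero] at h1
    exact h1.resolve_right (by exact_mod_cast (charDegree_pos _).ne')
  have hS : ∀ i, ((e i : IrrCharacter G) : G → ℂ) c = ((v 0 i + v 1 i + v 2 i : ℤ) : ℂ) := by
    intro i
    rcases hval (e i : IrrCharacter G) with h0 | hS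
    · exact absurd (h0 0) (Finset.mem_filter.1 (e i).2).2
    · rw [hS, Fin.sum_univ_three]
  -- the block sum
  have hβ : 1 + 1 / (x : ℚ) + (ε : ℚ) / y - 1 / z = 8 * (δ 0 : ℚ) / (d 0 : ℚ) := by
    have h1 := hpair 0
    rw [hbeta, hre _ fun χ hχ => by simp [hχ]] at h1
    have hterm : ∀ i, (v 0 i + v 1 i + v 2 i) * (v 0 i + v 1 i + v 2 i) * v 0 i =
        3 * v 0 i + 2 * v 1 i + 2 * v 2 i + 2 * δ 0 := by
      intro i
      rw [← (hδd i).1]
      simp only [hδ]
      rcases hvs 0 i with h | h <;> rcases hvs 1 i with h' | h' <;>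
        rcases hvs 2 i with h'' | h'' <;> simp [h, h', h'']
    have hnum : ∑ i, (v 0 i + v 1 i + v 2 i) * (v 0 i + v 1 i + v 2 i) * v 0 i = 8 * δ 0 := by
      rw [Finset.sum_congr rfl fun i _ => hterm i]
      simp only [Finset.sum_add_distrib, ← Finset.mul_sum, hsum0, Finset.sum_const,
        Finset.card_univ, Fintype.card_fin, nsmul_eq_mul]
      push_cast
      ring
    apply Rat.cast_injective (α := ℂ)
    push_cast
    rw [← h1]
    have h2 : ((8 * δ 0 : ℤ) : ℂ) = ∑ i,
        (((v 0 i + v 1 i + v 2 i) * (v 0 i + v 1 i + v 2 i) * v 0 i : ℤ) : ℂ) := by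
      rw [← hnum, Int.cast_sum]
    push_cast at h2
    rw [h2, Finset.sum_div]
    refine Finset.sum_congr rfl fun i _ => ?_
    rw [hS i, map_intCast, apply_one_eq_charDegree, ← hdd i]
    push_cast
    rfl
  have hpos := (beta_small hε hx4 hy4 hz4 hx2 hy2 hz2 hrel).1
  have hs0 : δ 0 = 1 ∨ δ 0 = -1 := by
    rcases hvs 0 0 with h | h <;> rcases hvs 1 0 with h' | h' <;>
      rcases hvs 2 0 with h'' | h'' <;> simp [hδ, h, h', h'']
  have hδ1 : δ 0 = 1 := by
    refine hs0.resolve_right fun e => ?_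
    rw [hβ, e] at hpos
    push_cast at hpos
    rw [lt_div_iff₀ hd0q] at hpos
    linarith
  rw [hδ1, Int.cast_one, mul_one] at hβ
  have hne : ((e 0 : IrrCharacter G) : G → ℂ) ≠ fun _ => 1 := by
    intro hh
    have h1 : (e 0 : IrrCharacter G) = trivialIrr := Subtype.ext hh
    exact (Finset.mem_filter.1 (e 0).2).2 (by rw [h1, htriv])
  have h4 := (degree_facts h.gen h.simple h.nonab h.oneClass hne (hS 0)).1
  have hmod : d 0 % 4 = 3 := by
    change (4 : ℤ) ∣ (d 0 : ℤ) + 3 * (v 0 0 + v 1 0 + v 2 0) at h4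
    simp only [hδ] at hδ1
    rcases hvs 0 0 with a | a <;> rcases hvs 1 0 with b | b <;> rcases hvs 2 0 with b' | b' <;>
      rw [a, b, b'] at h4 hδ1 <;> omega
  obtain ⟨rfl, rfl⟩ := beta_eight_div hε hx4 hy4 hz4 hx2 hy2 hz2 hrel hmod hβ
  exact abelian_coreAt_of_degree_three h.gen h.simple hne3 hy (by rw [hv3]; norm_num)

/-- The orbit of three, for a configuration. -/
theorem orbit3_abelian (S : Sylow 2 G) (c s θ : G) (hcfg : Cfg S 1 c s)
    (hθc : θ * c * θ⁻¹ = s) (hθs : θ * s * θ⁻¹ = c * s) (lam : Fin 3 → G → ℂ)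
    (h1 : ∀ k, lam k 1 = 1)
    (hmul : ∀ k, ∀ x ∈ coreAt c, ∀ y ∈ coreAt c, lam k (x * y) = lam k x * lam k y)
    (hinv : ∀ k, ∀ g y : G, g * c = c * g → y ∈ coreAt c → lam k (g * y * g⁻¹) = lam k y)
    (hdist : ∀ j k, j ≠ k → ∃ y ∈ pairCore c s, lam j y ≠ lam k y)
    (hshift : ∀ k, ∀ y ∈ pairCore c s, lam k (θ⁻¹ * y * θ) = lam (k + 1) y) :
    ∀ x ∈ coreAt c, ∀ y ∈ coreAt c, Commute x y :=
  Orbit3.abelian (S := S) (s := s) (θ := θ) (lam := lam)
    ⟨⟨hcfg.simple, hcfg.nonab, hcfg.gen, hθc, hθs, h1, hmul, hinv, hshift⟩, hdist⟩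

end Cfsg.Agent.H99.GW
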