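import Cfsg.Agent.H15.GW.StableBlock

/-!
# Sections in the blocks of a fused family of linear characters

`H15.GW.section_dichotomy` for a class function restricting to `O` as the sum of several
invariant linear characters.
-/

open scoped ComplexConjugate

set_option linter.style.haveILetI false

namespace Cfsg.Agent.H99.GW

open MonoidAlgebra BlockBasic CharBasic Cores Cfsg.Agent.H15.GW

universe u

variable {G : Type u} [Group G] [Finite G] {p : ℕ} {M : Ideal AlgInt} {x : G} {e : ℕ}

open scoped Classical in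
/-- The dichotomy on the section `x O`. -/
theorem section_dichotomy_family [Fintype G] [hp : Fact p.Prime] (hM : IsPModular p M)
    (hx : orderOf x = p ^ e) {O : Subgroup G} (hOx : ∀ y ∈ O, y * x = x * y)
    (hreg : ∀ y : G, y * x = x * y → (¬ p ∣ orderOf y ↔ y ∈ O))
    {Z : G → ℂ} (hZ : IsClassFunction G Z) (hZint : ∀ g, MemLocalRing M (conj (Z g)))
    (hsing : ∀ g, p ∣ orderOf g → Z g = 0) {ι : Type*} [Fintype ι] (lam : ι → G → ℂ)
    (hZO : ∀ y ∈ O, Z y = ∑ k, lam k y) (hl1 : ∀ k, lam k 1 = 1)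
    (hlmul : ∀ k, ∀ a b : G, a ∈ O → b ∈ O → lam k (a * b) = lam k a * lam k b)
    (hlinv : ∀ k, ∀ g y : G, g * x = x * g → y ∈ O → lam k (g * y * g⁻¹) = lam k y)
    (hdist : ∀ j k, j ≠ k → ∃ y ∈ O, lam j y ≠ lam k y) (χ : IrrCharacter G) :
    (∃ c : ι → ℂ, ∀ y ∈ O, (χ : G → ℂ) (x * y) = ∑ k, c k * lam k y) ∨
      ∀ k, ∑ y : G with y ∈ O, conj (lam k y) * (χ : G → ℂ) (x * y) = 0 := by
  set H := Subgroup.centralizer ({x} : Set G) with hH
  haveI : Fintype H := Fintype.ofFinite _
  have hmem : ∀ c : G, c ∈ H ↔ c * x = x * c := fun c =>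
    Subgroup.mem_centralizer_singleton_iff
  set N := O.subgroupOf H with hN
  haveI : Fintype N := Fintype.ofFinite _
  have hNmem : ∀ c : H, c ∈ N ↔ (c : G) ∈ O := fun c => Subgroup.mem_subgroupOf
  have hOH : O ≤ H := fun y hy => (hmem y).2 (hOx y hy)
  have hregH : ∀ c : H, ¬ p ∣ orderOf c ↔ c ∈ N := fun c => by
    rw [hNmem, ← Subgroup.orderOf_coe, hreg _ ((hmem _).1 c.2)]
  have hNcard : ¬ p ∣ Nat.card N := fun hd => by
    obtain ⟨c, hc⟩ := exists_prime_orderOf_dvd_card' p hd
    have h := (hregH c).2 c.2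
    rw [Subgroup.orderOf_coe, hc] at h
    exact h dvd_rfl
  set z : MonoidAlgebra ℂ G := ofFun fun g => conj (Z g) with hz
  have hzc : IsCentralElt z := isCentralElt_ofFun fun g h => by
    show conj (Z (h * g * h⁻¹)) = conj (Z g)
    rw [hZ g h]
  set f : H → ℂ := fun c => Z (c : G) with hf
  have hfres : resElt H z = ofFun fun c : H => conj (f c) := by
    rw [resElt, hz]
    simp [hf]
  have hfc : IsClassFunction H f := fun g k => by
    show Z ((k * g * k⁻¹ : H) : G) = Z g
    push_cast
    exact hZ _ _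
  have hfout : ∀ c : H, c ∉ N → f c = 0 := fun c hc => by
    refine hsing _ ?_
    rw [Subgroup.orderOf_coe]
    exact not_not.1 fun h => hc ((hregH c).1 h)
  set fk : ι → H → ℂ := fun k c => if c ∈ N then lam k (c : G) else 0 with hfk
  have hfsum : ∀ c : H, f c = ∑ k, fk k c := fun c => by
    by_cases hc : c ∈ N
    · simp only [hfk, if_pos hc]
      exact hZO _ ((hNmem c).1 hc)
    · simp only [hfk, if_neg hc, Finset.sum_const_zero]
      exact hfout c hc
  have hNnorm : ∀ c g : H, c ∈ N → g * c * g⁻¹ ∈ N := fun c g hc => (hregH _).1 (by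
    have h := (hregH c).2 hc
    rwa [show g * c * g⁻¹ = MulAut.conj g c by simp, MulEquiv.orderOf_eq])
  have hfkc : ∀ k, IsClassFunction H (fk k) := fun k c g => by
    simp only [hfk]
    by_cases hc : c ∈ N
    · rw [if_pos hc, if_pos (hNnorm c g hc)]
      push_cast
      exact hlinv k _ _ ((hmem _).1 g.2) ((hNmem c).1 hc)
    · rw [if_neg hc, if_neg fun h => hc ?_]
      have h2 := hNnorm _ g⁻¹ h
      rwa [inv_inv, show g⁻¹ * (g * c * g⁻¹) * g = c by group] at h2
  have hfkmul : ∀ k, ∀ a b : H, a ∈ N → b ∈ N → fk k (a * b) = fk k a * fk k b :=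
    fun k a b ha hb => by
      simp only [hfk, if_pos ha, if_pos hb, if_pos (N.mul_mem ha hb)]
      exact hlmul k _ _ ((hNmem a).1 ha) ((hNmem b).1 hb)
  have hfk1 : ∀ k, fk k 1 = 1 := fun k => by
    simp only [hfk, if_pos N.one_mem]
    exact hl1 k
  have hone := fun (ξ : IrrCharacter H) (k : ι) =>
    omega_linear_cases N (hfkc k) (fun c hc => by simp only [hfk, if_neg hc]) (hfkmul k) (hfk1 k) ξ.2
  have hadd : ∀ ξ : IrrCharacter H, omega (ξ : H → ℂ) (resElt H z) =
      ∑ k, omega (ξ : H → ℂ) (ofFun fun c : H => conj (fk k c)) := fun ξ => by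
    simp only [omega, chiLin, hfres, coeff_ofFun, ← Finset.sum_div]
    congr 1
    rw [Finset.sum_comm]
    exact Finset.sum_congr rfl fun c _ => by rw [hfsum, map_sum, Finset.sum_mul]
  have hcases : ∀ ξ : IrrCharacter H,
      (omega (ξ : H → ℂ) (resElt H z) = 0 ∧
          ∀ k, omega (ξ : H → ℂ) (ofFun fun c : H => conj (fk k c)) = 0) ∨
        (omega (ξ : H → ℂ) (resElt H z) = (Nat.card N : ℂ) ∧
          ∃ k, ∀ w ∈ N, (ξ : H → ℂ) w = fk k w * (ξ : H → ℂ) 1) := fun ξ => by
    by_cases h : ∀ k, omega (ξ : H → ℂ) (ofFun fun c : H => conj (fk k c)) = 0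
    · exact Or.inl ⟨(hadd ξ).trans (Finset.sum_eq_zero fun k _ => h k), h⟩
    · push Not at h
      obtain ⟨k, hk⟩ := h
      obtain ⟨hkN, hkv⟩ := (hone ξ k).resolve_left hk
      refine Or.inr ⟨?_, k, hkv⟩
      rw [hadd, Finset.sum_eq_single_of_mem k (Finset.mem_univ k) fun j _ hjk => ?_, hkN]
      refine (hone ξ j).resolve_right fun ⟨_, hjv⟩ => ?_
      obtain ⟨y, hy, hne⟩ := hdist j k hjk
      have hyN : (⟨y, hOH hy⟩ : H) ∈ N := (hNmem _).2 hy
      have h := mul_right_cancel₀ (irr_one_ne_zero ξ.2) ((hjv _ hyN).symm.trans (hkv _ hyN))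
      simp only [hfk, if_pos hyN] at h
      exact hne h
  set θ : H → ℂ := fun c => (χ : G → ℂ) (x * (c : G)) with hθdef
  have hθ : IsClassFunction H θ := fun g k => by
    show (χ : G → ℂ) (x * ((k * g * k⁻¹ : H) : G)) = _
    have hk := (hmem _).1 k.2
    rw [show x * ((k * g * k⁻¹ : H) : G) = (k : G) * (x * (g : G)) * (k : G)⁻¹ by
      push_cast; rw [← mul_assoc (k : G) x, hk]; group]
    exact IsIrr.isClassFunction χ.2 _ _
  -- the integrality needed to move the central character
  have hconj : ∀ g, MemLocalRing M (conj (Z g)) := by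
    intro g
    by_cases hg : p ∣ orderOf g
    · rw [hsing g hg, map_zero]; exact (locRing hM).zero_mem
    · exact hZint g
  have hzi : IsIntElt M z := fun g => by rw [hz, coeff_ofFun]; exact hconj g
  -- relevant characters of the centraliser have the same central character at `z`
  have hblocks : ∀ y ∈ N, θ y = ∑ ξ : IrrCharacter H,
      if IsInducedBlock M H (blockOf M (ξ : H → ℂ)) (blockOf M (χ : G → ℂ))
      then classInner θ (ξ : H → ℂ) * (ξ : H → ℂ) y else 0 := by
    intro y hy
    conv_lhs => rw [classFunction_expansion hθ]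
    simp only [Finset.sum_apply, Pi.smul_apply, smul_eq_mul]
    rw [← Finset.sum_filter_add_sum_filter_not Finset.univ
      (fun ξ : IrrCharacter H =>
        IsInducedBlock M H (blockOf M (ξ : H → ℂ)) (blockOf M (χ : G → ℂ))),
      ← Finset.sum_filter, add_eq_left]
    rw [← Finset.sum_fiberwise_of_maps_to (g := fun ξ : IrrCharacter H => blockOf M (ξ : H → ℂ))
      (t := Finset.univ.image fun ξ : IrrCharacter H => blockOf M (ξ : H → ℂ))
      (fun ξ _ => Finset.mem_image_of_mem _ (Finset.mem_univ ξ))]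
    refine Finset.sum_eq_zero fun b hb => ?_
    obtain ⟨ξ₀, -, rfl⟩ := Finset.mem_image.1 hb
    by_cases hind : IsInducedBlock M H (blockOf M (ξ₀ : H → ℂ)) (blockOf M (χ : G → ℂ))
    · refine Finset.sum_eq_zero fun ξ hξ => absurd hind ?_
      simp only [Finset.mem_filter, Finset.mem_univ, true_and] at hξ
      exact hξ.2 ▸ hξ.1
    have h2 := second_main hM hx (isPBlock_blockOf M χ) (self_mem_blockOf hM χ)
      (isPBlock_blockOf M ξ₀) hind y ((hregH y).2 hy)
    rw [blockPart, finsum_mem_eq_sum_ite,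
      Subsingleton.elim (Fintype.ofFinite H) ‹Fintype H›, ← Finset.sum_filter] at h2
    refine Eq.trans (Finset.sum_congr ?_ fun _ _ => rfl) h2
    ext ξ
    simp only [Finset.mem_filter, Finset.mem_univ, true_and]
    constructor
    · rintro ⟨-, heq⟩
      exact heq ▸ self_mem_blockOf hM ξ
    · intro hξ
      have heq := (isPBlock_eq_blockOf hM (isPBlock_blockOf M ξ₀) hξ).symm
      exact ⟨by rw [heq]; exact hind, heq⟩
  have hcongr : ∀ ξ : IrrCharacter H,
      IsInducedBlock M H (blockOf M (ξ : H → ℂ)) (blockOf M (χ : G → ℂ)) →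
      MemLocalIdeal M (omega (ξ : H → ℂ) (resElt H z) - omega (χ : G → ℂ) z) := fun ξ hind =>
    omega_resElt_congr hM (IsIrr.isClassFunction χ.2)
      (hind.2.2 ξ (self_mem_blockOf hM ξ) χ (self_mem_blockOf hM χ)) hzc hzi
  have hcard : ¬ MemLocalIdeal M (Nat.card N : ℂ) := fun h =>
    hNcard ((memLocalIdeal_natCast_iff hM _).1 h)
  by_cases hχ : MemLocalIdeal M (omega (χ : G → ℂ) (ofFun fun g => conj (Z g)))
  swap
  · left
    have hin : ∀ ξ : IrrCharacter H,
        IsInducedBlock M H (blockOf M (ξ : H → ℂ)) (blockOf M (χ : G → ℂ)) →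
        ∃ k, ∀ w ∈ N, (ξ : H → ℂ) w = fk k w * (ξ : H → ℂ) 1 := fun ξ hind => by
      rcases hcases ξ with ⟨h, -⟩ | ⟨-, h⟩
      · refine absurd ?_ hχ
        have h2 := memLocalIdeal_neg (hcongr ξ hind)
        rwa [h, zero_sub, neg_neg] at h2
      · exact h
    refine ⟨fun k => ∑ ξ : IrrCharacter H,
      if hind : IsInducedBlock M H (blockOf M (ξ : H → ℂ)) (blockOf M (χ : G → ℂ)) then
        (if (hin ξ hind).choose = k then classInner θ (ξ : H → ℂ) * (ξ : H → ℂ) 1 else 0)
      else 0, fun y hy => ?_⟩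
    have hyN : (⟨y, hOH hy⟩ : H) ∈ N := (hNmem _).2 hy
    show θ ⟨y, hOH hy⟩ = _
    rw [hblocks _ hyN]
    simp only [Finset.sum_mul]
    rw [Finset.sum_comm]
    refine Finset.sum_congr rfl fun ξ _ => ?_
    by_cases hind : IsInducedBlock M H (blockOf M (ξ : H → ℂ)) (blockOf M (χ : G → ℂ))
    · simp only [if_pos hind, dif_pos hind, ite_mul, zero_mul, Finset.sum_ite_eq,
        Finset.mem_univ, if_true]
      rw [(hin ξ hind).choose_spec _ hyN]
      simp only [hfk, if_pos hyN]
      ring
    · simp only [if_neg hind, dif_neg hind, zero_mul, Finset.sum_const_zero]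
  · right
    intro k
    have hzero : ∀ ξ : IrrCharacter H,
        IsInducedBlock M H (blockOf M (ξ : H → ℂ)) (blockOf M (χ : G → ℂ)) →
        ∑ c : H, conj (fk k c) * (ξ : H → ℂ) c = 0 := fun ξ hind => by
      rcases hcases ξ with ⟨-, h⟩ | ⟨h, -⟩
      · have h2 := h k
        rw [omega, div_eq_zero_iff] at h2
        simpa [chiLin, coeff_ofFun] using h2.resolve_right (irr_one_ne_zero ξ.2)
      · refine absurd ?_ hcard
        have h2 := memLocalIdeal_add hM (hcongr ξ hind) hχ
        rwa [sub_add_cancel, h] at h2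
    calc ∑ y : G with y ∈ O, conj (lam k y) * (χ : G → ℂ) (x * y)
        = ∑ c : H with c ∈ N, conj (fk k c) * θ c := by
          refine Finset.sum_bij' (fun y hy => (⟨y, hOH (Finset.mem_filter.1 hy).2⟩ : H))
            (fun c _ => (c : G)) ?_ ?_ ?_ ?_ ?_
          · intro y hy
            exact Finset.mem_filter.2 ⟨Finset.mem_univ _,
              (hNmem _).2 (Finset.mem_filter.1 hy).2⟩
          · intro c hc
            exact Finset.mem_filter.2 ⟨Finset.mem_univ _,
              (hNmem c).1 (Finset.mem_filter.1 hc).2⟩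
          · exact fun _ _ => rfl
          · exact fun _ _ => rfl
          · intro y hy
            simp only [hfk, hθdef, if_pos ((hNmem ⟨y, hOH (Finset.mem_filter.1 hy).2⟩).2
              (Finset.mem_filter.1 hy).2)]
      _ = ∑ c : H with c ∈ N, ∑ ξ : IrrCharacter H,
            if IsInducedBlock M H (blockOf M (ξ : H → ℂ)) (blockOf M (χ : G → ℂ))
            then conj (fk k c) * (classInner θ (ξ : H → ℂ) * (ξ : H → ℂ) c) else 0 := by
          refine Finset.sum_congr rfl fun c hc => ?_
          rw [hblocks c (Finset.mem_filter.1 hc).2, Finset.mul_sum]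
          exact Finset.sum_congr rfl fun ξ _ => by rw [mul_ite, mul_zero]
      _ = 0 := by
          rw [Finset.sum_comm]
          refine Finset.sum_eq_zero fun ξ _ => ?_
          by_cases hind : IsInducedBlock M H (blockOf M (ξ : H → ℂ)) (blockOf M (χ : G → ℂ))
          · simp only [if_pos hind]
            have h2 : ∑ c : H with c ∈ N, conj (fk k c) * (ξ : H → ℂ) c = 0 := by
              rw [Finset.sum_filter]
              refine Eq.trans (Finset.sum_congr rfl fun c _ => ?_) (hzero ξ hind)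
              split_ifs with hc
              · rfl
              · simp only [hfk, if_neg hc, map_zero, zero_mul]
            rw [← mul_zero (classInner θ (ξ : H → ℂ)), ← h2, Finset.mul_sum]
            exact Finset.sum_congr rfl fun c _ => by ring
          · simp [if_neg hind]

end Cfsg.Agent.H99.GW
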