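import Cfsg.Agent.H99.GW.KleinCase
import Cfsg.Agent.H99.GW.KleinSplit
import Cfsg.Agent.H99.GW.SectionFamily
import Cfsg.Agent.H39.DihedralFusion
import Cfsg.Agent.H82.PrincipalBlock

/-!
# Columns of an orbit of three linear characters at a four group Sylow `2`-subgroup

The coefficients `A k χ` of `χ` at `lam k` on the section of `c`: they are integers of equal parity
in `k`, orthogonal with norm four, orthogonal to the degrees, and their pair counts are those of
the principal block.
-/

open scoped ComplexConjugate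

set_option autoImplicit false
set_option linter.style.haveILetI false

namespace Cfsg.Agent.H99.GW

open MonoidAlgebra BlockBasic CharBasic Cores Cfsg.Agent.GW Cfsg.Agent.H15.GW

universe u

variable {G : Type u} [Group G] [Finite G]

/-- Three linear characters of `O(C(c))`, permuted by `θ`. -/
structure ShiftData (S : Sylow 2 G) (c s θ : G) (lam : Fin 3 → G → ℂ) : Prop where
  simple : IsSimpleGroup G
  nonab : ¬ IsMulCommutative G
  gen : H39.DGen (S : Subgroup G) 1 c s
  conj_c : θ * c * θ⁻¹ = s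
  conj_s : θ * s * θ⁻¹ = c * s
  one : ∀ k, lam k 1 = 1
  map_mul : ∀ k, ∀ x ∈ coreAt c, ∀ y ∈ coreAt c, lam k (x * y) = lam k x * lam k y
  inv : ∀ k, ∀ g y : G, g * c = c * g → y ∈ coreAt c → lam k (g * y * g⁻¹) = lam k y
  shift : ∀ k, ∀ y ∈ pairCore c s, lam k (θ⁻¹ * y * θ) = lam (k + 1) y

/-- The data: three linear characters of `O(C(c))`, distinct on `D`, permuted by `θ`. -/
structure Orbit3 (S : Sylow 2 G) (c s θ : G) (lam : Fin 3 → G → ℂ) : Prop
    extends ShiftData S c s θ lam where
  dist : ∀ j k, j ≠ k → ∃ y ∈ pairCore c s, lam j y ≠ lam k y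

variable {S : Sylow 2 G} {c s θ : G} {lam : Fin 3 → G → ℂ}

theorem ShiftData.oneClass (h : ShiftData S c s θ lam) (w : G) (hw : orderOf w = 2) : IsConj c w := by
  have hno : ∀ H : Subgroup G, H.index ≠ 2 := by
    intro H hH
    haveI := h.simple
    haveI := Subgroup.normal_of_index_eq_two hH
    rcases IsSimpleGroup.eq_bot_or_eq_top_of_normal H this with rfl | rfl
    · rw [Subgroup.index_bot] at hH
      haveI : Fact (Nat.Prime 2) := ⟨Nat.prime_two⟩
      haveI := isCyclic_of_prime_card hH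
      exact h.nonab (IsCyclic.isMulCommutative (α := G))
    · rw [Subgroup.index_top] at hH
      omega
  have := h.gen.isConj_z_of_no_index_two hno hw
  rwa [pow_one] at this

omit [Finite G] in
theorem ShiftData.commute_cs (h : ShiftData S c s θ lam) : c * s = s * c := by
  obtain ⟨hK, -⟩ := isKleinFour_of_dGen h.gen
  exact congrArg Subtype.val (hK.isMulCommutative.is_comm.comm
    (⟨c, h.gen.mem_c⟩ : (S : Subgroup G)) ⟨s, h.gen.mem_s⟩)

/-- `D` is the odd part of the centraliser of the four group, and `θ` normalises it. -/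
theorem ShiftData.mem_pair (h : ShiftData S c s θ lam) (y : G) :
    y ∈ pairCore c s ↔ y * c = c * y ∧ Odd (orderOf y) ∧ y * s = s * y := by
  rw [pairCore, Subgroup.mem_inf, (coreAt_klein h.gen).1, Subgroup.mem_centralizer_singleton_iff]
  tauto

theorem ShiftData.conj_mem (h : ShiftData S c s θ lam) {y : G} (hy : y ∈ pairCore c s) :
    θ⁻¹ * y * θ ∈ pairCore c s := by
  obtain ⟨hyc, hyo, hys⟩ := (h.mem_pair y).1 hy
  have hcs := h.commute_cs
  have h2 : θ * (c * s) * θ⁻¹ = c := by
    rw [show θ * (c * s) * θ⁻¹ = (θ * c * θ⁻¹) * (θ * s * θ⁻¹) by group, h.conj_c, h.conj_s, hcs,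
      ← mul_assoc, H39.mul_self_of_orderOf_eq_two h.gen.os, one_mul]
  have key : ∀ a b : G, θ * a * θ⁻¹ = b → y * b = b * y →
      θ⁻¹ * y * θ * a = a * (θ⁻¹ * y * θ) := fun a b hab hb => by
    calc θ⁻¹ * y * θ * a = θ⁻¹ * (y * (θ * a * θ⁻¹)) * θ := by group
      _ = θ⁻¹ * ((θ * a * θ⁻¹) * y) * θ := by rw [hab, hb]
      _ = a * (θ⁻¹ * y * θ) := by group
  have e1 : θ⁻¹ * y * θ * c = c * (θ⁻¹ * y * θ) := key c s h.conj_c hys
  have e2 : θ⁻¹ * y * θ * (c * s) = c * s * (θ⁻¹ * y * θ) := key _ c h2 hyc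
  refine (h.mem_pair _).2 ⟨e1, odd_orderOf_conj θ hyo, ?_⟩
  refine mul_left_cancel (a := c) ?_
  calc c * (θ⁻¹ * y * θ * s) = θ⁻¹ * y * θ * (c * s) := by rw [← mul_assoc, ← e1, mul_assoc]
    _ = c * (s * (θ⁻¹ * y * θ)) := by rw [e2, mul_assoc]

/-- The sum of the three characters is stable. -/
theorem ShiftData.stableDatum (h : ShiftData S c s θ lam) :
    StableDatum c (fun y => ∑ k, lam k y) := by
  obtain ⟨hmem, -⟩ := coreAt_klein h.gen
  have hc2 : orderOf c = 2 := by rw [h.gen.oc, mul_one]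
  refine ⟨hc2, h.oneClass, fun a y ha hy hyo => Finset.sum_congr rfl fun k _ =>
    h.inv k a y ha ((hmem y).2 ⟨hy, hyo⟩), ?_⟩
  intro g y hgc hyc hyo hyw
  haveI : Fact (Nat.Prime 2) := ⟨Nat.prime_two⟩
  set w := g * c * g⁻¹ with hw
  obtain ⟨hK, hS4⟩ := isKleinFour_of_dGen h.gen
  set C := Subgroup.centralizer ({c} : Set G) with hC
  have hSC : (S : Subgroup G) ≤ C := fun a ha => Subgroup.mem_centralizer_singleton_iff.2 <|
    congrArg Subtype.val (hK.isMulCommutative.is_comm.comm (⟨a, ha⟩ : (S : Subgroup G))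
      ⟨c, h.gen.mem_c⟩)
  let w' : C := ⟨w, Subgroup.mem_centralizer_singleton_iff.2 hgc⟩
  have hwo : orderOf w' = 2 := by rw [← Subgroup.orderOf_coe]; exact (H39.orderOf_conj g c).trans hc2
  obtain ⟨Q, hQ⟩ := (IsPGroup.of_card (n := 1) (by rw [Nat.card_zpowers, hwo, pow_one]) :
    IsPGroup 2 (Subgroup.zpowers w')).exists_le_sylow
  obtain ⟨b, hb⟩ := MulAction.exists_smul_eq C Q (S.subtype hSC)
  have hσ : ((b * w' * b⁻¹ : C) : G) ∈ (S : Subgroup G) := by
    have : b * w' * b⁻¹ ∈ ((S.subtype hSC : Sylow 2 C) : Subgroup C) := by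
      rw [← hb, Sylow.coe_subgroup_smul]
      exact ⟨w', hQ (Subgroup.mem_zpowers w'), rfl⟩
    rwa [Sylow.coe_subtype, Subgroup.mem_subgroupOf] at this
  push_cast at hσ
  have hbc : (b : G) * c = c * (b : G) := Subgroup.mem_centralizer_singleton_iff.1 b.2
  set σ := (b : G) * w * (b : G)⁻¹ with hσdef
  set y' := (b : G) * y * (b : G)⁻¹ with hy'def
  have hy'c : y' * c = c * y' := by
    calc y' * c = (b : G) * y * ((b : G)⁻¹ * c * b) * (b : G)⁻¹ := by rw [hy'def]; group
      _ = (b : G) * (c * y) * (b : G)⁻¹ := by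
          rw [show (b : G)⁻¹ * c * b = c by rw [mul_assoc, ← hbc]; group, mul_assoc (b : G) y c, hyc]
      _ = c * y' := by rw [hy'def, ← mul_assoc, hbc]; group
  have hy'o : Odd (orderOf y') := by
    have := odd_orderOf_conj (b : G)⁻¹ hyo
    rwa [inv_inv] at this
  have hy's : y' * σ = σ * y' := by
    calc y' * σ = (b : G) * (y * w) * (b : G)⁻¹ := by rw [hy'def, hσdef]; group
      _ = (b : G) * (w * y) * (b : G)⁻¹ := by rw [hyw]
      _ = σ * y' := by rw [hy'def, hσdef]; group
  set g₀ := (b : G) * g with hg₀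
  have hg₀c : g₀ * c * g₀⁻¹ = σ := by rw [hg₀, hσdef, hw]; group
  have hyO : y ∈ coreAt c := (hmem y).2 ⟨hyc, hyo⟩
  have hσ1 : σ ≠ 1 := fun e => by
    rw [← hg₀c] at e
    exact absurd (conj_eq_one_iff.1 e) fun hc => by rw [hc, orderOf_one] at hc2; omega
  show ∑ k, lam k (g⁻¹ * y * g) = ∑ k, lam k y
  rw [show g⁻¹ * y * g = g₀⁻¹ * y' * g₀ by rw [hg₀, hy'def]; group,
    show ∑ k, lam k y = ∑ k, lam k y' from
      Finset.sum_congr rfl fun k _ => (h.inv k _ _ hbc hyO).symm]
  have hperm : ∀ z ∈ pairCore c s, ∑ k, lam k (θ⁻¹ * z * θ) = ∑ k, lam k z := fun z hz => by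
    rw [Finset.sum_congr rfl fun k _ => h.shift k z hz]
    exact Equiv.sum_comp (Equiv.addRight (1 : Fin 3)) fun k => lam k z
  have hstep : ∀ (a : G), g₀ = a * (a⁻¹ * g₀) → (a⁻¹ * g₀) * c = c * (a⁻¹ * g₀) →
      a⁻¹ * y' * a ∈ coreAt c → ∑ k, lam k (g₀⁻¹ * y' * g₀) = ∑ k, lam k (a⁻¹ * y' * a) := by
    intro a _ hac hay
    refine Finset.sum_congr rfl fun k _ => ?_
    have hi : (a⁻¹ * g₀)⁻¹ * c = c * (a⁻¹ * g₀)⁻¹ := (Commute.inv_left hac).eq
    rw [← h.inv k _ _ hi hay]
    group
  rcases hS4 _ hσ with e | e | e | e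
  · exact absurd e hσ1
  · rw [hstep 1 (by group) (by
      rw [inv_one, one_mul]
      exact mul_inv_eq_iff_eq_mul.1 (hg₀c.trans e)) (by simpa using (hmem y').2 ⟨hy'c, hy'o⟩)]
    simp
  · have hyP : y' ∈ pairCore c s := (h.mem_pair _).2 ⟨hy'c, hy'o, by rw [← e]; exact hy's⟩
    rw [hstep θ (by group) ?_ (Subgroup.mem_inf.1 (h.conj_mem hyP)).1, hperm _ hyP]
    calc θ⁻¹ * g₀ * c = θ⁻¹ * (g₀ * c * g₀⁻¹) * g₀ := by group
      _ = θ⁻¹ * (θ * c * θ⁻¹) * g₀ := by rw [hg₀c, e, h.conj_c]
      _ = c * (θ⁻¹ * g₀) := by group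
  · have hyP : y' ∈ pairCore c s := by
      refine (h.mem_pair _).2 ⟨hy'c, hy'o, mul_left_cancel (a := c) ?_⟩
      calc c * (y' * s) = y' * (c * s) := by rw [← mul_assoc, ← hy'c, mul_assoc]
        _ = c * (s * y') := by rw [← e, hy's, e, mul_assoc]
    have hθ2 : (θ * θ) * c * (θ * θ)⁻¹ = c * s := by
      rw [show (θ * θ) * c * (θ * θ)⁻¹ = θ * (θ * c * θ⁻¹) * θ⁻¹ by group, h.conj_c, h.conj_s]
    have hyP2 : θ⁻¹ * (θ⁻¹ * y' * θ) * θ ∈ pairCore c s := h.conj_mem (h.conj_mem hyP)
    rw [hstep (θ * θ) (by group) ?_ ?_,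
      show (θ * θ)⁻¹ * y' * (θ * θ) = θ⁻¹ * (θ⁻¹ * y' * θ) * θ by group,
      hperm _ (h.conj_mem hyP), hperm _ hyP]
    · calc (θ * θ)⁻¹ * g₀ * c = (θ * θ)⁻¹ * (g₀ * c * g₀⁻¹) * g₀ := by group
        _ = (θ * θ)⁻¹ * ((θ * θ) * c * (θ * θ)⁻¹) * g₀ := by rw [hg₀c, e, hθ2]
        _ = c * ((θ * θ)⁻¹ * g₀) := by group
    · rw [show (θ * θ)⁻¹ * y' * (θ * θ) = θ⁻¹ * (θ⁻¹ * y' * θ) * θ by group]
      exact (Subgroup.mem_inf.1 hyP2).1

omit [Finite G] in
open scoped Classical in
/-- Distinct linear characters of a subgroup are orthonormal on it. -/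
theorem inner_linear {K : Subgroup G} [Fintype K] {μ : Fin 3 → G → ℂ} (h1 : ∀ k, μ k 1 = 1)
    (hmul : ∀ k, ∀ x ∈ K, ∀ y ∈ K, μ k (x * y) = μ k x * μ k y)
    (hdist : ∀ j k, j ≠ k → ∃ y ∈ K, μ j y ≠ μ k y) (j k : Fin 3) :
    Cfsg.classInner (fun y : K => μ j (y : G)) (fun y : K => μ k (y : G)) =
      if j = k then 1 else 0 := by
  let f : Fin 3 → K →* ℂ := fun k =>
    { toFun := fun y => μ k (y : G)
      map_one' := h1 k
      map_mul' := fun a b => hmul k _ a.2 _ b.2 }
  have hi : ∀ k, Cfsg.IsIrrCharacter K (fun y : K => μ k (y : G)) := fun k =>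
    H82.isIrrCharacter_hom (f k)
  split_ifs with hjk
  · subst hjk
    exact classInner_irr_self (hi j)
  · refine classInner_irr_of_ne (hi j) (hi k) fun e => ?_
    obtain ⟨y, hy, hne⟩ := hdist j k hjk
    exact hne (congrFun e ⟨y, hy⟩)

open scoped Classical in
/-- Integer coefficients of equal parity, with the expansion at `c`. -/
theorem Orbit3.exists_coeff [Fintype G] [Fintype (coreAt c)] (h : Orbit3 S c s θ lam)
    {M : Ideal AlgInt} (hM : IsPModular 2 M) (χ : IrrCharacter G) :
    ∃ A : Fin 3 → ℤ, (∀ k, Cfsg.classInner (fun y : coreAt c => (χ : G → ℂ) (c * (y : G)))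
        (fun y : coreAt c => lam k (y : G)) = (A k : ℂ)) ∧
      (∀ k, (2 : ℤ) ∣ A (k + 1) - A k) ∧
      ((∀ k, A k = 0) ∨ (χ : G → ℂ) c = ((∑ k, A k : ℤ) : ℂ)) := by
  haveI : Fact (Nat.Prime 2) := ⟨Nat.prime_two⟩
  obtain ⟨hmem, -⟩ := coreAt_klein h.gen
  have hd := h.stableDatum
  have hc2 : orderOf c = 2 := hd.ord
  have hpow : ∀ k, ∀ y ∈ coreAt c, lam k y ^ orderOf y = 1 := by
    intro k y hy
    have : ∀ n : ℕ, lam k (y ^ n) = lam k y ^ n := by
      intro n
      induction n with
      | zero => rw [pow_zero, pow_zero, h.one]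
      | succ n ih => rw [pow_succ, h.map_mul k _ (pow_mem hy n) _ hy, ih, pow_succ]
    rw [← this, pow_orderOf_eq_one, h.one]
  have hint : ∀ g, MemLocalRing M (conj (stableExt c (fun y => ∑ k, lam k y) g)) := by
    intro g
    rcases hd.ext_range g with e | ⟨z, hz, hzc, e⟩ <;> rw [e]
    · rw [map_zero]; exact (locRing hM).zero_mem
    · refine memLocalRing_of_isIntegral hM ?_
      rw [map_sum]
      refine IsIntegral.sum _ fun k _ => ?_
      refine IsIntegral.of_pow (orderOf_pos z) ?_
      rw [← map_pow, hpow k z ((hmem z).2 ⟨hzc, hz⟩), map_one]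
      exact isIntegral_one
  have hDO : pairCore c s ≤ coreAt c := inf_le_left
  haveI : Fintype (pairCore c s) := Fintype.ofFinite _
  have hd' : ∀ j k, j ≠ k → ∃ y ∈ coreAt c, lam j y ≠ lam k y := fun j k hjk => by
    obtain ⟨y, hy, hne⟩ := h.dist j k hjk
    exact ⟨y, hDO hy, hne⟩
  have horO := inner_linear (K := coreAt c) h.one h.map_mul hd'
  have horD := inner_linear (K := pairCore c s) h.one
    (fun k x hx y hy => h.map_mul k x (hDO hx) y (hDO hy)) h.dist
  have hext : ∀ y ∈ coreAt c, stableExt c (fun y => ∑ k, lam k y) y = ∑ k, lam k y := fun y hy =>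
    hd.ext_eq_self ((hmem y).1 hy).2 ((hmem y).1 hy).1
  rcases section_dichotomy_family hM (x := c) (e := 1) (by rw [hc2, pow_one]) (O := coreAt c)
      (fun y hy => ((hmem y).1 hy).1)
      (fun y hy => by
        rw [hmem]
        exact ⟨fun h2 => ⟨hy, Nat.not_even_iff_odd.1 fun h3 => h2 (even_iff_two_dvd.1 h3)⟩,
          fun h2 h3 => Nat.not_even_iff_odd.2 h2.2 (even_iff_two_dvd.2 h3)⟩)
      (Z := stableExt c fun y => ∑ k, lam k y) (fun g x => hd.ext_conj g x) hint
      (fun g hg => stableExt_of_not_odd fun ho => Nat.not_even_iff_odd.2 ho (even_iff_two_dvd.2 hg))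
      lam hext h.one (fun k a b ha hb => h.map_mul k a ha b hb) h.inv hd' χ with
    ⟨a, ha⟩ | hzero
  · have hcc : c * c = 1 := H39.mul_self_of_orderOf_eq_two hc2
    have hss : s * s = 1 := H39.mul_self_of_orderOf_eq_two h.gen.os
    have hO : ∀ j, Cfsg.classInner (fun y : coreAt c => (χ : G → ℂ) (c * (y : G)))
        (fun y : coreAt c => lam j (y : G)) = a j := by
      intro j
      rw [show (fun y : coreAt c => (χ : G → ℂ) (c * (y : G))) =
        ∑ k, a k • fun y : coreAt c => lam k (y : G) from funext fun y => by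
          rw [ha _ y.2]; simp, classInner_sum_left]
      simp [classInner_smul_left, horO]
    have hDc : ∀ j, Cfsg.classInner (fun y : pairCore c s => (χ : G → ℂ) (c * (y : G)))
        (fun y : pairCore c s => lam j (y : G)) = a j := by
      intro j
      rw [show (fun y : pairCore c s => (χ : G → ℂ) (c * (y : G))) =
        ∑ k, a k • fun y : pairCore c s => lam k (y : G) from funext fun y => by
          rw [ha _ (hDO y.2)]; simp, classInner_sum_left]
      simp [classInner_smul_left, horD]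
    have hDs : ∀ j, Cfsg.classInner (fun y : pairCore c s => (χ : G → ℂ) (s * (y : G)))
        (fun y : pairCore c s => lam (j + 1) (y : G)) = a j := by
      intro j
      rw [show (fun y : pairCore c s => (χ : G → ℂ) (s * (y : G))) =
        ∑ k, a k • fun y : pairCore c s => lam (k + 1) (y : G) from funext fun y => by
          rw [← IsIrr.isClassFunction χ.2 (s * (y : G)) θ⁻¹,
            show θ⁻¹ * (s * (y : G)) * θ⁻¹⁻¹ = c * (θ⁻¹ * (y : G) * θ) by
              calc θ⁻¹ * (s * (y : G)) * θ⁻¹⁻¹ = θ⁻¹ * ((θ * c * θ⁻¹) * (y : G)) * θ := by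
                    rw [inv_inv, h.conj_c]
                _ = c * (θ⁻¹ * (y : G) * θ) := by group,
            ha _ (hDO (h.conj_mem y.2))]
          simp [h.shift _ _ y.2], classInner_sum_left]
      simp [classInner_smul_left, horD]
    have hlinchar : ∀ j, Cfsg.IsCharacter (pairCore c s) (fun y : pairCore c s => lam j (y : G)) :=
      fun j => IsIrr.isCharacter (H82.isIrrCharacter_hom
        ({ toFun := fun y => lam j (y : G)
           map_one' := h.one j
           map_mul' := fun x y => h.map_mul j _ (hDO x.2) _ (hDO y.2) } : pairCore c s →* ℂ))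
    have hχ := IsIrr.isCharacter χ.2
    choose p q hpq hpq' using fun j => exists_split (K := pairCore c s) hcc
      (fun y hy => (((h.mem_pair y).1 hy).1).symm) hχ (hlinchar j)
    choose p' q' hpq₁ hpq₂ using fun j => exists_split (K := pairCore c s) hss
      (fun y hy => (((h.mem_pair y).1 hy).2.2).symm) hχ (hlinchar j)
    have hA : ∀ j, a j = (((p j : ℤ) - q j : ℤ) : ℂ) := fun j => by
      rw [← hDc, hpq']; push_cast; rfl
    refine ⟨fun j => (p j : ℤ) - q j, fun j => by rw [hO, hA], fun j => ?_, Or.inr ?_⟩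
    · have h1 : ((p (j + 1) : ℂ) + q (j + 1)) = (p' (j + 1) : ℂ) + q' (j + 1) := by
        rw [← hpq, ← hpq₁]
      have h2 : (p' (j + 1) : ℂ) - q' (j + 1) = (p j : ℂ) - q j := by
        rw [← hpq₂, hDs, ← hDc, hpq']
      have e1 : p (j + 1) + q (j + 1) = p' (j + 1) + q' (j + 1) := by exact_mod_cast h1
      have e2 : (p' (j + 1) : ℤ) + q j = p j + q' (j + 1) := by
        have h3 : (p' (j + 1) : ℂ) + q j = p j + q' (j + 1) := by linear_combination h2
        exact_mod_cast h3
      show (2 : ℤ) ∣ ((p (j + 1) : ℤ) - q (j + 1)) - ((p j : ℤ) - q j)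
      omega
    · have h1 := ha 1 (one_mem _)
      rw [mul_one] at h1
      rw [h1]
      simp [h.one, hA]
  · refine ⟨0, fun k => ?_, fun k => by simp, Or.inl fun k => rfl⟩
    rw [classInner_def, Pi.zero_apply, Int.cast_zero]
    refine mul_eq_zero_of_right _ ?_
    rw [← hzero k, Finset.sum_subtype (p := fun y : G => y ∈ coreAt c) _ (fun y => by simp)]
    exact Finset.sum_congr rfl fun y _ => mul_comm _ _

open scoped Classical in
/-- The column relations. -/
theorem Orbit3.columns [Fintype G] (h : Orbit3 S c s θ lam) {M : Ideal AlgInt}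
    (hM : IsPModular 2 M) :
    ∃ A : IrrCharacter G → Fin 3 → ℤ,
      (∀ χ k, (2 : ℤ) ∣ A χ (k + 1) - A χ k) ∧
      (∀ χ, (∀ k, A χ k = 0) ∨ (χ : G → ℂ) c = ((∑ k, A χ k : ℤ) : ℂ)) ∧
      (∀ j k, ∑ χ, A χ j * A χ k = if j = k then 4 else 0) ∧
      (∀ k, ∑ χ : IrrCharacter G, A χ k * (charDegree (χ : G → ℂ) : ℤ) = 0) ∧
      (∀ k, A trivialIrr k = 0) ∧
      ∀ k, ∑ χ : IrrCharacter G,
          conj ((χ : G → ℂ) c) * conj ((χ : G → ℂ) c) * (A χ k : ℂ) / (χ : G → ℂ) 1 =
        ∑ᶠ χ ∈ principalBlock M G,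
          conj ((χ : G → ℂ) c) * conj ((χ : G → ℂ) c) * (χ : G → ℂ) c / (χ : G → ℂ) 1 := by
  haveI : Fact (Nat.Prime 2) := ⟨Nat.prime_two⟩
  haveI : Fintype (coreAt c) := Fintype.ofFinite _
  choose A hA hpar hval using h.exists_coeff hM
  obtain ⟨hmem, hC4⟩ := coreAt_klein h.gen
  have hd := h.stableDatum
  have hu : ∃ k, orderOf c = 2 ^ k := ⟨1, by rw [hd.ord, pow_one]⟩
  have hc1 : c ≠ 1 := fun e => by
    have := hd.ord
    rw [e, orderOf_one] at this
    omega
  have ho : (Nat.card (coreAt c) : ℂ) ≠ 0 := Nat.cast_ne_zero.2 Nat.card_pos.ne'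
  have hsec : ∀ y : coreAt c, pPart (p := 2) (c * (y : G)) = c := fun y =>
    pPart_mul_of ((hmem _).1 y.2).1.symm hu fun h2 =>
      Nat.not_even_iff_odd.2 ((hmem _).1 y.2).2 (even_iff_two_dvd.2 h2)
  have hcol : ∀ (k : Fin 3) (w : IrrCharacter G → ℂ), (Nat.card (coreAt c) : ℂ) *
      ∑ χ : IrrCharacter G, (A χ k : ℂ) * w χ =
      ∑ y : coreAt c, conj (lam k (y : G)) *
        ∑ χ : IrrCharacter G, (χ : G → ℂ) (c * (y : G)) * w χ := by
    intro k w
    simp only [← hA, classInner_def, Finset.mul_sum, Finset.sum_mul]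
    rw [Finset.sum_comm]
    refine Finset.sum_congr rfl fun y _ => Finset.sum_congr rfl fun χ _ => ?_
    field_simp
  refine ⟨A, hpar, hval, fun j k => ?_, fun k => ?_, fun k => ?_, fun k => ?_⟩
  · -- second orthogonality
    have h1 := hcol j fun χ => (A χ k : ℂ)
    have hcount : ∀ y : coreAt c, ∑ χ : IrrCharacter G, (χ : G → ℂ) (c * (y : G)) * (A χ k : ℂ) =
        4 * lam k (y : G) := by
      intro y
      apply mul_left_cancel₀ ho
      have h2 : ∀ χ : IrrCharacter G, (A χ k : ℂ) = conj (A χ k : ℂ) := fun χ =>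
        (map_intCast _ _).symm
      simp only [Finset.mul_sum]
      calc ∑ χ : IrrCharacter G,
            (Nat.card (coreAt c) : ℂ) * ((χ : G → ℂ) (c * (y : G)) * (A χ k : ℂ))
          = ∑ χ : IrrCharacter G, ∑ y' : coreAt c,
              lam k (y' : G) * ((χ : G → ℂ) (c * (y : G)) * conj ((χ : G → ℂ) (c * (y' : G)))) := by
            refine Finset.sum_congr rfl fun χ _ => ?_
            rw [h2, ← hA, classInner_def, _root_.map_mul, map_sum, map_inv₀, map_natCast]
            simp only [_root_.map_mul, Complex.conj_conj, Finset.mul_sum]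
            refine Finset.sum_congr rfl fun y' _ => ?_
            field_simp
        _ = ∑ y' : coreAt c, lam k (y' : G) *
              (Nat.card {x : G // x * (c * (y' : G)) * x⁻¹ = c * (y : G)} : ℂ) := by
            rw [Finset.sum_comm]
            refine Finset.sum_congr rfl fun y' _ => ?_
            rw [← Finset.mul_sum, second_orthogonality_count]
        _ = ∑ x : G, if x * c = c * x then lam k (y : G) else 0 := by
            simp only [Nat.card_eq_fintype_card, Fintype.card_subtype, Finset.card_filter,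
              Nat.cast_sum, Nat.cast_ite, Nat.cast_one, Nat.cast_zero, Finset.mul_sum, mul_ite,
              mul_one, mul_zero]
            rw [Finset.sum_comm]
            refine Finset.sum_congr rfl fun x _ => ?_
            split_ifs with hx
            · have hxy : x⁻¹ * (y : G) * x ∈ coreAt c := by
                refine (hmem _).2 ⟨?_, odd_orderOf_conj x ((hmem _).1 y.2).2⟩
                have hyc : Commute (y : G) c := ((hmem _).1 y.2).1
                exact (((Commute.inv_left hx).mul_left hyc).mul_left hx).eq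
              rw [Finset.sum_eq_single (⟨_, hxy⟩ : coreAt c)]
              · have h3 := h.inv k x⁻¹ y (Commute.inv_left hx).eq y.2
                rw [inv_inv] at h3
                rw [if_pos (by
                  calc x * (c * (x⁻¹ * (y : G) * x)) * x⁻¹ = (x * c) * x⁻¹ * (y : G) := by group
                    _ = c * (y : G) := by rw [hx, mul_inv_cancel_right])]
                exact h3
              · intro z _ hz
                refine if_neg fun e => hz (Subtype.ext ?_)
                show (z : G) = x⁻¹ * (y : G) * x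
                have h3 : c * ((x * (z : G) * x⁻¹)) = c * (y : G) := by
                  rw [← e, ← mul_assoc x c, hx]; group
                rw [← mul_left_cancel h3]; group
              · simp
            · refine Finset.sum_eq_zero fun z _ => if_neg fun e => hx ?_
              have h3 := congrArg (pPart (p := 2)) e
              rw [pPart_conj, hsec, hsec] at h3
              exact mul_inv_eq_iff_eq_mul.1 h3
        _ = (Nat.card (coreAt c) : ℂ) * (4 * lam k (y : G)) := by
            rw [← Finset.sum_filter, Finset.sum_const, nsmul_eq_mul, ← Fintype.card_subtype,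
              ← Nat.card_eq_fintype_card, show Nat.card {x : G // x * c = c * x} =
              Nat.card (Subgroup.centralizer ({c} : Set G)) from
                Nat.card_congr (Equiv.subtypeEquivRight fun x =>
                  Subgroup.mem_centralizer_singleton_iff.symm), hC4]
            push_cast
            ring
    rw [Finset.sum_congr rfl (fun (y : coreAt c) (_ : y ∈ (Finset.univ : Finset (coreAt c))) =>
      congrArg (conj (lam j (y : G)) * ·) (hcount y))] at h1
    have hor := inner_linear (K := coreAt c) h.one h.map_mul (fun j k hjk => by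
      obtain ⟨y, hy, hne⟩ := h.dist j k hjk
      exact ⟨y, (inf_le_left : pairCore c s ≤ coreAt c) hy, hne⟩) k j
    rw [classInner_def, inv_mul_eq_iff_eq_mul₀ ho] at hor
    have h2 : ((∑ χ, A χ j * A χ k : ℤ) : ℂ) = (((if j = k then 4 else 0 : ℤ)) : ℂ) := by
      apply mul_left_cancel₀ ho
      rw [Int.cast_sum]
      simp only [Int.cast_mul]
      rw [h1, Finset.sum_congr rfl (g := fun y : coreAt c =>
        (4 : ℂ) * (lam k (y : G) * conj (lam j (y : G)))) (fun y _ => by ring), ← Finset.mul_sum, hor]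
      by_cases hjk : j = k
      · subst hjk; simp; ring
      · simp [hjk, Ne.symm hjk]
    exact_mod_cast h2
  · -- the degrees
    have h1 := hcol k fun χ => (χ : G → ℂ) 1
    rw [Finset.sum_eq_zero (s := (Finset.univ : Finset (coreAt c))) fun y _ => ?_] at h1
    · have h2 := (mul_eq_zero.1 h1).resolve_left ho
      simp only [apply_one_eq_charDegree] at h2
      exact_mod_cast h2
    · rw [Finset.sum_congr rfl fun χ _ => mul_comm _ _, sum_degree_mul_apply, if_neg, mul_zero]
      intro e
      have h2 := hsec y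
      rw [e, ← mul_one (1 : G), pPart_mul_of (Commute.one_right 1) ⟨0, by simp⟩ (by simp)] at h2
      exact hc1 h2.symm
  · -- the trivial character
    have hne : ∃ y ∈ coreAt c, lam k y ≠ 1 := by
      by_contra hcon
      push Not at hcon
      obtain ⟨y, hy, hne⟩ := h.dist (k + 1) k (by fin_cases k <;> decide)
      rw [hcon y (Subgroup.mem_inf.1 hy).1, ← h.shift k y hy,
        hcon _ (Subgroup.mem_inf.1 (h.conj_mem hy)).1] at hne
      exact hne rfl
    have hirr : Cfsg.IsIrrCharacter (coreAt c) (fun y : coreAt c => lam k (y : G)) :=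
      H82.isIrrCharacter_hom
        ({ toFun := fun y => lam k (y : G)
           map_one' := h.one k
           map_mul' := fun x y => h.map_mul k _ x.2 _ y.2 } : coreAt c →* ℂ)
    have h1 := hA trivialIrr k
    rw [show (fun y : coreAt c => ((trivialIrr : IrrCharacter G) : G → ℂ) (c * (y : G))) =
        fun _ => (1 : ℂ) from rfl, classInner_irr_of_ne isIrrCharacter_one hirr (fun e => by
      obtain ⟨y, hy, hy1⟩ := hne
      exact hy1 (congrFun e ⟨y, hy⟩).symm)] at h1
    exact_mod_cast h1.symm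
  · -- the pair count
    set N : coreAt c → ℕ := fun y =>
      Nat.card {a : G // IsConj c a ∧ IsConj c (a⁻¹ * (c * (y : G)))} with hN
    have hts : ∀ w : G, IsConj c w → w * w = 1 := fun w hw => by
      obtain ⟨b, rfl⟩ := isConj_iff.1 hw
      calc b * c * b⁻¹ * (b * c * b⁻¹) = b * (c * c) * b⁻¹ := by group
        _ = 1 := by rw [H39.mul_self_of_orderOf_eq_two hd.ord]; group
    have hcc : c⁻¹ = c := inv_eq_of_mul_eq_one_right (H39.mul_self_of_orderOf_eq_two hd.ord)
    have hweight : ∀ y : coreAt c, conj (lam k (y : G)) * (N y : ℂ) = (N y : ℂ) := by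
      intro y
      by_cases h0 : N y = 0
      · rw [h0]; simp
      obtain ⟨⟨a, ha, hb⟩⟩ := (Nat.card_pos_iff.1 (Nat.pos_of_ne_zero h0)).1
      have hai : a⁻¹ = a := inv_eq_of_mul_eq_one_right (hts a ha)
      have hinv : a * (c * (y : G)) * a⁻¹ = (c * (y : G))⁻¹ := by
        have hbb := hts _ hb
        rw [hai] at hbb ⊢
        refine eq_inv_of_mul_eq_one_left ?_
        simpa [mul_assoc] using hbb
      have hyc : Commute c (y : G) := ((hmem _).1 y.2).1.symm
      have hp' : pPart (p := 2) (c * (y : G))⁻¹ = c := by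
        have h1 := hsec y⁻¹
        rw [Subgroup.coe_inv] at h1
        rwa [mul_inv_rev, hcc, show (y : G)⁻¹ * c = c * (y : G)⁻¹ from hyc.inv_right.eq.symm]
      have hac : a * c = c * a := by
        have h1 := congrArg (pPart (p := 2)) hinv
        rw [pPart_conj, hsec, hp'] at h1
        exact mul_inv_eq_iff_eq_mul.1 h1
      have hay : a * (y : G) * a⁻¹ = (y : G)⁻¹ := by
        refine mul_left_cancel (a := c) ?_
        calc c * (a * (y : G) * a⁻¹) = a * (c * (y : G)) * a⁻¹ := by
              rw [← mul_assoc a c, hac]; group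
          _ = c * (y : G)⁻¹ := by rw [hinv, mul_inv_rev, hcc]; exact hyc.inv_right.eq.symm
      have hsq : lam k (y : G) * lam k (y : G) = 1 := by
        have h1 := h.map_mul k _ y.2 _ (inv_mem y.2)
        rw [mul_inv_cancel, h.one, ← hay, h.inv k a _ hac y.2] at h1
        exact h1.symm
      have hpow : ∀ n : ℕ, lam k ((y : G) ^ n) = lam k (y : G) ^ n := by
        intro n
        induction n with
        | zero => rw [pow_zero, pow_zero, h.one]
        | succ n ih => rw [pow_succ, h.map_mul k _ (pow_mem y.2 n) _ y.2, ih, pow_succ]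
      obtain ⟨r, hr⟩ := ((hmem _).1 y.2).2
      have hone : lam k (y : G) ^ (2 * r + 1) = 1 := by
        rw [← hr, ← hpow, pow_orderOf_eq_one, h.one]
      rw [pow_succ, pow_mul, pow_two, hsq, one_pow, one_mul] at hone
      rw [hone, map_one, one_mul]
    set idx : ℂ := ((Subgroup.centralizer ({c} : Set G)).index : ℂ) with hidx
    have hidx0 : idx * idx ≠ 0 :=
      mul_ne_zero (Nat.cast_ne_zero.2 Subgroup.index_ne_zero_of_finite)
        (Nat.cast_ne_zero.2 Subgroup.index_ne_zero_of_finite)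
    have hkey : ∀ y : coreAt c, idx * idx * ∑ χ : IrrCharacter G, (χ : G → ℂ) (c * (y : G)) *
        (conj ((χ : G → ℂ) c) * conj ((χ : G → ℂ) c) / (χ : G → ℂ) 1) =
        (Nat.card G : ℂ) * (N y : ℂ) := fun y => by
      rw [hN, H83.card_pairs_mul_card]
      congr 1
      exact Finset.sum_congr rfl fun χ _ => by ring
    have h1 := congrArg (idx * idx * ·) (hcol k fun χ =>
      conj ((χ : G → ℂ) c) * conj ((χ : G → ℂ) c) / (χ : G → ℂ) 1)
    simp only [Finset.mul_sum (s := (Finset.univ : Finset (coreAt c)))] at h1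
    rw [Finset.sum_congr rfl (fun y (_ : y ∈ (Finset.univ : Finset (coreAt c))) => by
      rw [mul_left_comm (idx * idx), hkey, mul_left_comm, hweight])] at h1
    have hreg : ∀ f : G → ℂ, ∑ y ∈ regCentral c, f y = ∑ y : coreAt c, f (y : G) := fun f =>
      Finset.sum_subtype _ (fun y => by rw [mem_regCentral, hmem]; tauto) f
    have hcO : ((regCentral c).card : ℂ) = (Nat.card (coreAt c) : ℂ) := by
      rw [Nat.card_eq_fintype_card, ← Finset.card_univ]
      have := hreg fun _ => 1
      simpa using this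
    have h2 : ∑ y : coreAt c, (Nat.card G : ℂ) * (N y : ℂ) =
        idx * idx * ((Nat.card (coreAt c) : ℂ) * ∑ᶠ χ ∈ principalBlock M G,
          conj ((χ : G → ℂ) c) * conj ((χ : G → ℂ) c) * (χ : G → ℂ) c / (χ : G → ℂ) 1) := by
      rw [Finset.sum_congr rfl fun y _ => (hkey y).symm, ← Finset.mul_sum, Finset.sum_comm]
      congr 1
      rw [finsum_mem_eq_sum_ite, Finset.mul_sum]
      refine Finset.sum_congr rfl fun χ _ => ?_
      rw [← Finset.sum_mul, ← hreg fun y => (χ : G → ℂ) (c * y),
        sum_regCentral hM hu (dihedral_centralizer_complement h.gen hu hc1) χ, hcO]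
      split_ifs <;> ring
    rw [h2] at h1
    refine Eq.trans ?_ (mul_left_cancel₀ ho (mul_left_cancel₀ hidx0 h1))
    exact Finset.sum_congr rfl fun χ _ => by ring

end Cfsg.Agent.H99.GW
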